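import Cfsg.Agent.H393.SpRows
import Cfsg.Agent.CpAutHe.Seven

/-!
# The Held group: the centralizer of an element of order 17 has order 17 (helper393)
-/

set_option autoImplicit false
set_option maxRecDepth 100000

namespace Cfsg.Agent.H393.Sp.He

open Subgroup Cfsg
open Cfsg.Spor.He (Gen)
open Cfsg.Agent.SporadicB.HePerm Cfsg.Agent.FixBN.HeStab Cfsg.Agent.KFacts.He.Lv Cfsg.Agent.CpAutHe.Cnt
  Cfsg.Agent.CpAutHe.Bound

/-- the word -/
def X : List Gen := [.c, .d, .g, .b]

theorem c0 : cnt 2058 (tst X [] [1] 1927) = 1 := by decide +kernel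

theorem s1 : ([1927].all fun a => elemN a (nx X [] 1927)) = true := by decide +kernel

theorem c1 : cnt 2058 (tst X [1927] [2, 3, 7] 1) = 17 := by decide +kernel

theorem s2 : ([1, 22, 1367, 1767, 1856].all fun a => elemN a (nx X (nx X [] 1927) 1)) = true := by decide +kernel

theorem c2 : cnt 2058 (tst X [1, 22, 1367, 1767, 1856] [] 0) = 1 := by decide +kernel

theorem s3 : ([1471, 22, 1856, 743, 660, 1767, 1927].all fun a => elemN a (nx X (nx X (nx X [] 1927) 1) 0)) = true := by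
  decide +kernel

theorem c3 : cnt 2058 (tst X [1471, 22, 1856] [] 32) = 1 := by decide +kernel

theorem c4 : cnt 2058 (tst X [743, 660, 1767, 1856, 1927] [] 8) = 1 := by decide +kernel

theorem card_le : Nat.card ↥(centralizer ({wd X} : Set Cfsg.Spor.He)) ≤ 17 := by
  have hC : ∀ c ∈ centralizer ({wd X} : Set Cfsg.Spor.He), c * wd X = wd X * c := fun c hc =>
    mem_centralizer_singleton_iff.1 hc
  have hnil : ∀ c : Cfsg.Spor.He, ∀ f ∈ ([] : List ℕ), Fx c f := fun _ _ hf => absurd hf List.not_mem_nil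
  have hF0 : ∀ c ∈ centralizer ({wd X} : Set Cfsg.Spor.He), ∀ f ∈ nx X [] 1927, Fx c f := fun c hc =>
    fx_nx (p := 1927) (hC c hc) (hnil c) (fix_of_one (hC c hc) (hnil c) 1927 [] [1] (fun _ h => h) c0)
  have hC1 : ∀ c ∈ st (centralizer ({wd X} : Set Cfsg.Spor.He)) 1, c * wd X = wd X * c := fun c hc =>
    hC c (mem_st.1 hc).1
  have hF1 : ∀ c ∈ st (centralizer ({wd X} : Set Cfsg.Spor.He)) 1, ∀ f ∈ nx X (nx X [] 1927) 1, Fx c f :=
    fun c hc => fx_nx (p := 1) (hC1 c hc) (hF0 c (mem_st.1 hc).1) (mem_st.1 hc).2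
  have h1 : Nat.card ↥(st (centralizer ({wd X} : Set Cfsg.Spor.He)) 1) ≤ 1 := by
    rw [Subgroup.card_le_one_iff_eq_bot, eq_bot_iff_forall]
    intro c hc
    have e0 : phi c 0 = 0 := fix_of_one (hC1 c hc) (hF1 c hc) 0 _ [] (sub_of_chk s2) c2
    have hF2 : ∀ f ∈ nx X (nx X (nx X [] 1927) 1) 0, Fx c f := fx_nx (p := 0) (hC1 c hc) (hF1 c hc) e0
    have hs := sub_of_chk s3
    have k := fix_of_one (hC1 c hc) hF2
    have e2 : phi c 32 = 32 := k 32 [1471, 22, 1856] [] (fun a ha => hs (by revert ha; revert a; decide)) c3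
    have e3 : phi c 8 = 8 := k 8 [743, 660, 1767, 1856, 1927] [] (fun a ha => hs (by revert ha; revert a; decide)) c4
    have e1 : phi c 1 = 1 := (mem_st.1 hc).2
    have e : ∀ i, phi (1 : Cfsg.Spor.He) i = i := fun i => by rw [map_one]; rfl
    apply eq_of_base
    · rw [e0, e]
    · rw [e1, e]
    · rw [e2, e]
    · rw [e3, e]
  exact step hC hF0 1 [1927] [2, 3, 7] (sub_of_chk s1) c1 h1

theorem chk17 : chkB (pw X 17) [] = true := by decide +kernel

theorem order : orderOf (wd X) = 17 := by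
  have : Fact (Nat.Prime 17) := ⟨by norm_num⟩
  refine orderOf_eq_prime ?_ (CpAutHe.Seven.ne_one_of_act 1 (by decide +kernel))
  have h := eq_of_chkB chk17
  rwa [wd_pw, wd_nil] at h

/-- elements of order 17 and 3 do not commute -/
theorem no_comm (x y : Cfsg.Spor.He) (hx : orderOf x = 17) (hy : orderOf y = 3) : x * y ≠ y * x := by
  intro h
  have hfin : Finite Cfsg.Spor.He := Nat.finite_of_card_ne_zero (by rw [KFacts.He.Classes.card_he]; norm_num)
  have hcard : Nat.card Cfsg.Spor.He = 4030387200 := KFacts.He.Classes.card_he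
  have h17 : Fact (Nat.Prime 17) := ⟨by norm_num⟩
  obtain ⟨g, hg⟩ := CpAutON.Gen.conj_into (p := 17) (by rw [hcard]; norm_num) hx order
  have h1 := (CpAutHe.Seven.card_cent_le hx order hg).trans card_le
  have hxC : x ∈ centralizer ({x} : Set Cfsg.Spor.He) := mem_centralizer_singleton_iff.2 rfl
  have hyC : y ∈ centralizer ({x} : Set Cfsg.Spor.He) := mem_centralizer_singleton_iff.2 h.symm
  have h2 : 17 ∣ Nat.card (centralizer ({x} : Set Cfsg.Spor.He)) := by
    have := orderOf_dvd_natCard (⟨x, hxC⟩ : centralizer ({x} : Set Cfsg.Spor.He))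
    rwa [← orderOf_coe, hx] at this
  have h3 : 3 ∣ Nat.card (centralizer ({x} : Set Cfsg.Spor.He)) := by
    have := orderOf_dvd_natCard (⟨y, hyC⟩ : centralizer ({x} : Set Cfsg.Spor.He))
    rwa [← orderOf_coe, hy] at this
  have h4 : 17 * 3 ∣ Nat.card (centralizer ({x} : Set Cfsg.Spor.He)) :=
    Nat.Coprime.mul_dvd_of_dvd_of_dvd (by norm_num) h2 h3
  have h5 := Nat.le_of_dvd Nat.card_pos h4
  omega

end Cfsg.Agent.H393.Sp.He

namespace Cfsg.Agent.H393.Sp

open Cfsg Cfsg.Agent.H393.Iso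

universe u

theorem noBad_he (E : Env.{u}) {T : Type u} [Group T] [Finite T] [IsSimpleGroup T] (h : Spor.IsoHe T) :
    NoBad 17 3 T := by
  obtain ⟨e⟩ := id h
  refine noBad_num E (by norm_num) (by norm_num) (by norm_num) (NotCT.Orders.he h) (na_he h) ?_ valid_he surv_he
    (by norm_num) (by norm_num) (by norm_num)
  intro x y hx hy hc
  exact He.no_comm (e x) (e y) (by rw [MulEquiv.orderOf_eq, hx]) (by rw [MulEquiv.orderOf_eq, hy])
    (by rw [← map_mul, hc, map_mul])

end Cfsg.Agent.H393.Sp
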