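import Cfsg.Agent.H393.Core
import Cfsg.Agent.H393.Iso.Base
import Cfsg.Agent.SignalizersComponents.Components
import Cfsg.Agent.PLocal.SubnormalCore
import Cfsg.Agent.CTwoTab.Good
import Cfsg.Agent.Lib.Cores

/-!
# Overgroups of Sylow `p`-subgroups when `p` is not adjacent to `2` (helper393)

`R` finite without nontrivial normal subgroups of prime power order, `x ∈ R` of odd prime order `p` not commuting with
any involution, `S` a subnormal simple subgroup of `R`: then `p` divides `|S|`, and if `p ^ 2` does not divide `|R|`,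
then `S` is normal with trivial centralizer.
-/

set_option autoImplicit false

namespace Cfsg.Agent.H393.Sp

open Subgroup Cfsg Cfsg.Agent.H393.Iso

/-- automorphisms of order dividing `p` fix an involution -/
def CopInv (p : ℕ) (K : Type*) [Group K] : Prop :=
  ∀ α : MulAut K, α ^ p = 1 → ∃ g : K, orderOf g = 2 ∧ α g = g

variable {R : Type*} [Group R]

theorem exists_comp [Finite R] [Nontrivial R] (h : ∀ r : ℕ, r.Prime → pCore r R = ⊥) :
    ∃ S : Subgroup R, S.IsSubnormal ∧ IsSimpleGroup S ∧ ¬ IsMulCommutative S := by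
  obtain ⟨S, hS, hs⟩ := exists_simple_subnormal R
  refine ⟨S, hS, hs, fun hc => ?_⟩
  let _ : CommGroup S := { (inferInstance : Group S) with mul_comm := hc.is_comm.comm }
  have hp : (Nat.card S).Prime := IsSimpleGroup.prime_card
  have : Fact (Nat.card S).Prime := ⟨hp⟩
  have h1 : IsPGroup (Nat.card S) S := IsPGroup.of_card (n := 1) (by rw [pow_one])
  have h2 := PLocal.SubnormalCore.le_pCore_of_isSubnormal hS h1
  rw [h _ hp, le_bot_iff] at h2
  exact (Subgroup.nontrivial_iff_ne_bot S).1 hs.toNontrivial h2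

theorem isComponent {S : Subgroup R} (hS : S.IsSubnormal) (hs : IsSimpleGroup S) (hna : ¬ IsMulCommutative S) :
    IsComponent S :=
  ⟨hS, CTwoTab.isQuasisimple_of_simple hna⟩

theorem comm_of_ne {S T : Subgroup R} (hS : IsComponent S) (hT : IsComponent T) (h : S ≠ T) {s t : R} (hs : s ∈ S)
    (ht : t ∈ T) : s * t = t * s := by
  have h1 := SignalizersComponents.Components.component_commutator_eq_bot_of_ne hS hT h
  have h2 := commutator_mem_commutator hs ht
  rw [h1, mem_bot, commutatorElement_def] at h2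
  exact mul_inv_eq_iff_eq_mul.1 (mul_inv_eq_one.1 h2)

/-- the conjugate of a subgroup -/
def cj (g : R) (S : Subgroup R) : Subgroup R := S.map (MulAut.conj g).toMonoidHom

theorem mem_cj {g : R} {S : Subgroup R} {y : R} : y ∈ cj g S ↔ g⁻¹ * y * g ∈ S := by
  constructor
  · rintro ⟨s, hs, rfl⟩
    show g⁻¹ * (g * s * g⁻¹) * g ∈ S
    have e : g⁻¹ * (g * s * g⁻¹) * g = s := by group
    rwa [e]
  · intro h
    exact ⟨_, h, by show g * (g⁻¹ * y * g) * g⁻¹ = y; group⟩

theorem conj_mem_cj {g : R} {S : Subgroup R} {s : R} (hs : s ∈ S) : g * s * g⁻¹ ∈ cj g S := ⟨s, hs, rfl⟩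

theorem cj_cj (g h : R) (S : Subgroup R) : cj g (cj h S) = cj (g * h) S := by
  ext y
  rw [mem_cj, mem_cj, mem_cj]
  have e : h⁻¹ * (g⁻¹ * y * g) * h = (g * h)⁻¹ * y * (g * h) := by group
  rw [e]

theorem cj_one (S : Subgroup R) : cj 1 S = S := by
  ext y
  rw [mem_cj, inv_one, one_mul, mul_one]

theorem isComponent_cj (g : R) {S : Subgroup R} (hS : IsComponent S) : IsComponent (cj g S) :=
  SignalizersComponents.Components.isComponent_conj g hS

theorem cj_pow_eq {x : R} {S : Subgroup R} (h : cj x S = S) (n : ℕ) : cj (x ^ n) S = S := by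
  induction n with
  | zero => rw [pow_zero, cj_one]
  | succ n ih => rw [pow_succ, ← cj_cj, h, ih]

theorem cj_inv_eq {x : R} {S : Subgroup R} (h : cj x S = S) : cj x⁻¹ S = S := by
  conv_lhs => rw [← h]
  rw [cj_cj, inv_mul_cancel, cj_one]

/-- `x` of prime order moves `S`: the conjugates `x ^ i S x ^ (-i)`, `0 < i < p`, differ from `S`. -/
theorem cj_pow_ne {p : ℕ} (hp : p.Prime) {x : R} (hx : orderOf x = p) {S : Subgroup R} (h : cj x S ≠ S) {n : ℕ}
    (hn : ¬ p ∣ n) : cj (x ^ n) S ≠ S := by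
  intro hc
  apply h
  have hcop : n.Coprime p := ((Nat.Prime.coprime_iff_not_dvd hp).2 hn).symm
  obtain ⟨m, -, hm⟩ := Nat.exists_mul_mod_eq_one_of_coprime hcop hp.one_lt
  have h1 : x ^ (n * m) = x := by
    rw [← pow_mod_orderOf, hx, hm, pow_one]
  have h2 := cj_pow_eq hc m
  rwa [← pow_mul, h1] at h2

section moved

variable {p : ℕ} (hp : p.Prime) {x : R} (hx : orderOf x = p) {S : Subgroup R} (hS : IsComponent S)
  (hmove : cj x S ≠ S)

include hp hx hS hmove

/-- the conjugates of `t ∈ S` under powers of `x` commute -/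
theorem conj_comm {t : R} (ht : t ∈ S) (i j : ℕ) :
    (x ^ i * t * (x ^ i)⁻¹) * (x ^ j * t * (x ^ j)⁻¹) = (x ^ j * t * (x ^ j)⁻¹) * (x ^ i * t * (x ^ i)⁻¹) := by
  have key : ∀ i d : ℕ, (x ^ i * t * (x ^ i)⁻¹) * (x ^ (i + d) * t * (x ^ (i + d))⁻¹) =
      (x ^ (i + d) * t * (x ^ (i + d))⁻¹) * (x ^ i * t * (x ^ i)⁻¹) := by
    intro i d
    have h1 : t * (x ^ d * t * (x ^ d)⁻¹) = (x ^ d * t * (x ^ d)⁻¹) * t := by
      by_cases hd : p ∣ d
      · obtain ⟨k, rfl⟩ := hd
        have : x ^ (p * k) = 1 := by rw [pow_mul, ← hx, pow_orderOf_eq_one, one_pow]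
        rw [this, one_mul, inv_one, mul_one]
      · exact comm_of_ne hS (isComponent_cj (x ^ d) hS) (cj_pow_ne hp hx hmove hd).symm ht (conj_mem_cj ht)
    calc (x ^ i * t * (x ^ i)⁻¹) * (x ^ (i + d) * t * (x ^ (i + d))⁻¹)
        = x ^ i * (t * (x ^ d * t * (x ^ d)⁻¹)) * (x ^ i)⁻¹ := by rw [pow_add, mul_inv_rev]; group
      _ = x ^ i * ((x ^ d * t * (x ^ d)⁻¹) * t) * (x ^ i)⁻¹ := by rw [h1]
      _ = _ := by rw [pow_add, mul_inv_rev]; group
  rcases le_total i j with h | h
  · obtain ⟨d, rfl⟩ := Nat.exists_eq_add_of_le h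
    exact key i d
  · obtain ⟨d, rfl⟩ := Nat.exists_eq_add_of_le h
    exact (key j d).symm

omit hp hx hS hmove in
/-- the product of the first `n` conjugates -/
def up (x t : R) : ℕ → R
  | 0 => 1
  | n + 1 => up x t n * (x ^ n * t * (x ^ n)⁻¹)

theorem up_comm {t : R} (ht : t ∈ S) (n j : ℕ) :
    up x t n * (x ^ j * t * (x ^ j)⁻¹) = (x ^ j * t * (x ^ j)⁻¹) * up x t n := by
  induction n with
  | zero => rw [up, one_mul, mul_one]
  | succ n ih => rw [up, mul_assoc, conj_comm hp hx hS hmove ht, ← mul_assoc, ih, mul_assoc]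

omit hp hx hS hmove in
theorem up_succ (x t : R) (n : ℕ) : up x t (n + 1) = t * (x * up x t n * x⁻¹) := by
  induction n with
  | zero => simp [up]
  | succ n ih =>
    have e : x ^ (n + 1) = x * x ^ n := pow_succ' x n
    have e2 : up x t (n + 1 + 1) = up x t (n + 1) * (x ^ (n + 1) * t * (x ^ (n + 1))⁻¹) := rfl
    have e3 : up x t (n + 1) = up x t n * (x ^ n * t * (x ^ n)⁻¹) := rfl
    calc up x t (n + 1 + 1) = (t * (x * up x t n * x⁻¹)) * (x ^ (n + 1) * t * (x ^ (n + 1))⁻¹) := by rw [e2, ih]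
      _ = t * (x * (up x t n * (x ^ n * t * (x ^ n)⁻¹)) * x⁻¹) := by rw [e, mul_inv_rev]; group
      _ = _ := by rw [← e3]

theorem up_sq {t : R} (ht : t ∈ S) (htt : t * t = 1) (n : ℕ) : up x t n * up x t n = 1 := by
  induction n with
  | zero => rw [up, one_mul]
  | succ n ih =>
    rw [up]
    have h1 := up_comm hp hx hS hmove ht n n
    calc up x t n * (x ^ n * t * (x ^ n)⁻¹) * (up x t n * (x ^ n * t * (x ^ n)⁻¹))
        = up x t n * ((x ^ n * t * (x ^ n)⁻¹) * up x t n) * (x ^ n * t * (x ^ n)⁻¹) := by group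
      _ = up x t n * (up x t n * (x ^ n * t * (x ^ n)⁻¹)) * (x ^ n * t * (x ^ n)⁻¹) := by rw [h1]
      _ = (up x t n * up x t n) * (x ^ n * (t * t) * (x ^ n)⁻¹) := by group
      _ = 1 := by rw [ih, htt]; group

theorem up_fix {t : R} (ht : t ∈ S) : x * up x t p = up x t p * x := by
  have h1 := up_succ x t p
  have h2 := up_comm hp hx hS hmove ht p 0
  rw [pow_zero, one_mul, inv_one, mul_one] at h2
  have h3 : up x t (p + 1) = up x t p * t := by
    have hxp : x ^ p = 1 := by rw [← hx, pow_orderOf_eq_one]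
    rw [up, hxp, one_mul, inv_one, mul_one]
  rw [h3, h2] at h1
  have h4 := mul_left_cancel h1
  calc x * up x t p = x * up x t p * x⁻¹ * x := by group
    _ = up x t p * x := by rw [← h4]

theorem up_comm_mem {t s : R} (ht : t ∈ S) (hs : s ∈ S) (n : ℕ) (hn : n < p) :
    (x * up x t n * x⁻¹) * s = s * (x * up x t n * x⁻¹) := by
  induction n with
  | zero => simp [up]
  | succ n ih =>
    have h1 := ih (by omega)
    have h2 : (x ^ (n + 1) * t * (x ^ (n + 1))⁻¹) * s = s * (x ^ (n + 1) * t * (x ^ (n + 1))⁻¹) :=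
      comm_of_ne (isComponent_cj (x ^ (n + 1)) hS) hS (cj_pow_ne hp hx hmove (Nat.not_dvd_of_pos_of_lt (by omega) hn))
        (conj_mem_cj ht) hs
    have h3 : x * up x t (n + 1) * x⁻¹ = (x * up x t n * x⁻¹) * (x ^ (n + 1) * t * (x ^ (n + 1))⁻¹) := by
      rw [up, pow_succ' x n, mul_inv_rev]
      group
    rw [h3, mul_assoc, h2, ← mul_assoc, h1, mul_assoc]

/-- **The moved case.** -/
theorem exists_of_move (hs : IsSimpleGroup S) (hna : ¬ IsMulCommutative S) {t : R} (ht : t ∈ S) (ht2 : orderOf t = 2) :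
    ∃ u : R, orderOf u = 2 ∧ x * u = u * x := by
  have htt := sq_of_two ht2
  have ht1 := ne_one_of_two ht2
  refine ⟨up x t p, two_of_sq (up_sq hp hx hS hmove ht htt p) ?_, up_fix hp hx hS hmove ht⟩
  intro hu
  obtain ⟨k, rfl⟩ : ∃ k, p = k + 1 := ⟨p - 1, by have := hp.pos; omega⟩
  rw [up_succ] at hu
  -- `t` is central in `S`
  have hc : ∀ s ∈ S, t * s = s * t := by
    intro s hs'
    have h1 := up_comm_mem hp hx hS hmove ht hs' k (Nat.lt_succ_self k)
    have h2 : t = (x * up x t k * x⁻¹)⁻¹ := eq_inv_of_mul_eq_one_left hu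
    have h3 : Commute (x * up x t k * x⁻¹) s := h1
    rw [h2]
    exact h3.inv_left.eq
  have h4 : (⟨t, ht⟩ : S) ∈ center S := mem_center_iff.2 fun g => Subtype.ext (hc g g.2).symm
  rcases hs.eq_bot_or_eq_top_of_normal (center S) inferInstance with h5 | h5
  · rw [h5, mem_bot] at h4
    exact ht1 (congrArg Subtype.val h4)
  · apply hna
    refine ⟨⟨fun a b => ?_⟩⟩
    have h6 : a ∈ center S := by rw [h5]; exact mem_top a
    exact (mem_center_iff.1 h6 b).symm

end moved

/-- the automorphism of `S` induced by `x` -/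
def aut {x : R} {S : Subgroup R} (h : cj x S = S) : MulAut S where
  toFun s := ⟨x * s * x⁻¹, by
    have h1 := conj_mem_cj (g := x) s.2
    rw [h] at h1
    exact h1⟩
  invFun s := ⟨x⁻¹ * s * x, by
    have h1 := conj_mem_cj (g := x⁻¹) s.2
    rw [cj_inv_eq h, inv_inv] at h1
    exact h1⟩
  left_inv s := Subtype.ext (by
    show x⁻¹ * (x * s * x⁻¹) * x = s
    group)
  right_inv s := Subtype.ext (by
    show x * (x⁻¹ * s * x) * x⁻¹ = s
    group)
  map_mul' a b := Subtype.ext (by
    show x * (a * b) * x⁻¹ = (x * a * x⁻¹) * (x * b * x⁻¹)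
    group)

theorem coe_aut {x : R} {S : Subgroup R} (h : cj x S = S) (s : S) : ((aut h s : S) : R) = x * s * x⁻¹ := rfl

theorem aut_pow {x : R} {S : Subgroup R} (h : cj x S = S) (n : ℕ) (s : S) :
    (((aut h ^ n) s : S) : R) = x ^ n * s * (x ^ n)⁻¹ := by
  induction n generalizing s with
  | zero => simp
  | succ n ih =>
    rw [pow_succ, MulAut.mul_apply, ih, coe_aut, pow_succ, mul_inv_rev]
    group

/-- **Some involution commutes with `x` unless `p` divides `|S|`.** -/
theorem exists_comm_of_not_dvd {p : ℕ} (hp : p.Prime) {x : R} (hx : orderOf x = p) {S : Subgroup R}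
    (hS : IsComponent S) (hs : IsSimpleGroup S) (hna : ¬ IsMulCommutative S) (heven : ∃ t : S, orderOf t = 2)
    (hcop : CopInv p S) : ∃ u : R, orderOf u = 2 ∧ x * u = u * x := by
  by_cases hmove : cj x S = S
  · obtain ⟨g, hg2, hg⟩ := hcop (aut hmove) (by
      ext s
      rw [aut_pow, ← hx, pow_orderOf_eq_one, one_mul, inv_one, mul_one]
      rfl)
    refine ⟨g, by rw [← hg2, orderOf_coe], ?_⟩
    have h1 : x * g * x⁻¹ = g := congrArg Subtype.val hg
    calc x * g = x * g * x⁻¹ * x := by group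
      _ = g * x := by rw [h1]
  · obtain ⟨t, ht⟩ := heven
    exact exists_of_move hp hx hS hmove hs hna t.2 (by rw [← ht, orderOf_coe])

/-- `|N(P) : C(P)|` divides `p - 1` for `P` of order `p` -/
theorem card_normalizer_dvd [Finite R] {p : ℕ} (hp : p.Prime) {P : Subgroup R} (hP : Nat.card P = p) :
    Nat.card (normalizer (P : Set R)) ∣ Nat.card (centralizer (P : Set R)) * (p - 1) := by
  have hc : IsCyclic P := isCyclic_of_prime_card (hp := ⟨hp⟩) hP
  have hle : centralizer (P : Set R) ≤ normalizer (P : Set R) := centralizer_le_normalizer _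
  have h1 := Subgroup.card_mul_index (P.normalizerMonoidHom).ker
  have h2 : Nat.card (P.normalizerMonoidHom).ker = Nat.card (centralizer (P : Set R)) := by
    rw [normalizerMonoidHom_ker]
    exact Nat.card_congr (subgroupOfEquivOfLe hle).toEquiv
  rw [index_ker, h2] at h1
  rw [← h1]
  refine Nat.mul_dvd_mul_left _ ?_
  have h3 : Nat.card (MulAut P) = p - 1 := by
    rw [IsCyclic.card_mulAut, hP, Nat.totient_prime hp]
  rw [← h3]
  exact card_subgroup_dvd_card _

/-- **The Frattini argument.** -/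
theorem pow_dvd [Finite R] {p q : ℕ} (hp : p.Prime) (hq : q.Prime) {S : Subgroup R} (hS : S.Normal)
    (hpS : p ∣ Nat.card S) (hpp : ¬ p ^ 2 ∣ Nat.card R)
    (hno : ∀ x y : R, orderOf x = p → orderOf y = q → x * y ≠ y * x) {j : ℕ} (hj : q ^ j ∣ Nat.card R) :
    q ^ j ∣ Nat.card S * (p - 1) := by
  have : Fact p.Prime := ⟨hp⟩
  obtain ⟨P⟩ : Nonempty (Sylow p S) := inferInstance
  have hPc : Nat.card (P : Subgroup S) = p := by
    obtain ⟨k, hk⟩ := IsPGroup.iff_card.1 P.2
    have h1 : p ∣ Nat.card (P : Subgroup S) := P.dvd_card_of_dvd_card hpS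
    have h0 : k ≠ 0 := by
      rintro rfl
      rw [hk, pow_zero] at h1
      exact hp.one_lt.ne' (Nat.dvd_one.1 h1)
    have h2 : k < 2 := by
      by_contra hc
      push Not at hc
      apply hpp
      exact ((pow_dvd_pow p hc).trans (hk ▸ card_subgroup_dvd_card (P : Subgroup S))).trans
        (card_subgroup_dvd_card S)
    have h3 : k = 1 := by omega
    rw [hk, h3, pow_one]
  let P' : Subgroup R := (P : Subgroup S).map S.subtype
  have hP' : Nat.card P' = p := by
    rw [← hPc]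
    exact (Nat.card_congr ((P : Subgroup S).equivMapOfInjective _ S.subtype_injective).toEquiv).symm
  have h1 : normalizer (P' : Set R) ⊔ S = ⊤ := Sylow.normalizer_sup_eq_top P
  have h2 : Nat.card R ∣ Nat.card S * Nat.card (normalizer (P' : Set R)) := by
    have h3 := Lib.Cores.card_sup_dvd S (normalizer (P' : Set R)) hS
    rw [sup_comm, h1, card_top] at h3
    exact h3
  have h3 := card_normalizer_dvd hp hP'
  have h4 : q ^ j ∣ Nat.card (centralizer (P' : Set R)) * (Nat.card S * (p - 1)) := by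
    refine (hj.trans (h2.trans (Nat.mul_dvd_mul_left _ h3))).trans (dvd_of_eq ?_)
    ring
  have h5 : ¬ q ∣ Nat.card (centralizer (P' : Set R)) := by
    intro h
    have : Fact q.Prime := ⟨hq⟩
    obtain ⟨y, hy⟩ := exists_prime_orderOf_dvd_card' (G := centralizer (P' : Set R)) q h
    obtain ⟨x, hx⟩ := exists_prime_orderOf_dvd_card' (G := P') p (by rw [hP'])
    refine hno x y (by rw [← hx, orderOf_coe]) (by rw [← hy, orderOf_coe]) ?_
    exact mem_centralizer_iff.1 y.2 x x.2
  exact (Nat.Coprime.pow_left j ((Nat.Prime.coprime_iff_not_dvd hq).2 h5)).dvd_of_dvd_mul_left h4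

/-- commuting elements of order `p` generate the same subgroup if `p ^ 2` does not divide `|R|` -/
theorem mem_zpowers_of_comm [Finite R] {p : ℕ} (hp : p.Prime) (hpp : ¬ p ^ 2 ∣ Nat.card R) {x y : R}
    (hx : orderOf x = p) (hy : orderOf y = p) (hxy : x * y = y * x) : y ∈ zpowers x := by
  have : Fact p.Prime := ⟨hp⟩
  have hX : IsPGroup p (zpowers x) := IsPGroup.of_card (n := 1) (by rw [Nat.card_zpowers, hx, pow_one])
  have hY : IsPGroup p (zpowers y) := IsPGroup.of_card (n := 1) (by rw [Nat.card_zpowers, hy, pow_one])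
  have hn : zpowers y ≤ normalizer (zpowers x : Set R) := by
    rw [zpowers_le, mem_normalizer_iff]
    intro z
    have key : ∀ g z : R, g * x = x * g → z ∈ zpowers x → g * z * g⁻¹ ∈ zpowers x := by
      intro g z hg hz
      obtain ⟨n, rfl⟩ := mem_zpowers_iff.1 hz
      have h1 : Commute g (x ^ n) := (show Commute g x from hg).zpow_right n
      rw [h1.eq, mul_inv_cancel_right]
      exact hz
    refine ⟨key y z hxy.symm, fun hz => ?_⟩
    have h2 : y⁻¹ * x = x * y⁻¹ := (show Commute y x from hxy.symm).inv_left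
    have h3 := key y⁻¹ _ h2 hz
    have e : y⁻¹ * (y * z * y⁻¹) * y⁻¹⁻¹ = z := by group
    rwa [e] at h3
  have hs : IsPGroup p (zpowers x ⊔ zpowers y : Subgroup R) := hX.to_sup_of_normal_left' hY hn
  obtain ⟨k, hk⟩ := IsPGroup.iff_card.1 hs
  have hk2 : k < 2 := by
    by_contra hc
    push Not at hc
    exact hpp ((pow_dvd_pow p hc).trans (hk ▸ card_subgroup_dvd_card (zpowers x ⊔ zpowers y : Subgroup R)))
  have hle : Nat.card (zpowers x ⊔ zpowers y : Subgroup R) ≤ Nat.card (zpowers x) := by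
    rw [hk, Nat.card_zpowers, hx]
    calc p ^ k ≤ p ^ 1 := Nat.pow_le_pow_right hp.pos (by omega)
      _ = p := pow_one p
  have he := eq_of_le_of_card_ge (le_sup_left : zpowers x ≤ zpowers x ⊔ zpowers y) hle
  rw [he]
  exact mem_sup_right (mem_zpowers y)

/-- a component of order divisible by `p` is normal if `p ^ 2` does not divide `|R|` -/
theorem cj_eq_of_dvd [Finite R] {p : ℕ} (hp : p.Prime) (hpp : ¬ p ^ 2 ∣ Nat.card R) {S : Subgroup R}
    (hS : IsComponent S) (hs : IsSimpleGroup S) (hna : ¬ IsMulCommutative S) (hpS : p ∣ Nat.card S) (g : R) :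
    cj g S = S := by
  by_contra hne
  have : Fact p.Prime := ⟨hp⟩
  obtain ⟨x, hx⟩ := exists_prime_orderOf_dvd_card' (G := S) p hpS
  have hx' : orderOf (x : R) = p := by rw [← hx, orderOf_coe]
  have hy' : orderOf (g * x * g⁻¹) = p := by
    rw [← hx']
    exact orderOf_injective (MulAut.conj g).toMonoidHom (MulAut.conj g).injective (x : R)
  have hcomm : ∀ s ∈ S, s * (g * x * g⁻¹) = (g * x * g⁻¹) * s := fun s hs' =>
    comm_of_ne hS (isComponent_cj g hS) (Ne.symm hne) hs' (conj_mem_cj x.2)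
  have h1 := mem_zpowers_of_comm hp hpp hx' hy' (hcomm x x.2)
  have h2 : g * x * g⁻¹ ∈ S := (zpowers_le.2 x.2) h1
  have h4 : (⟨g * x * g⁻¹, h2⟩ : S) ∈ center S := mem_center_iff.2 fun s => Subtype.ext (hcomm s s.2)
  rcases hs.eq_bot_or_eq_top_of_normal (center S) inferInstance with h5 | h5
  · rw [h5, mem_bot] at h4
    have h6 : g * x * g⁻¹ = 1 := congrArg Subtype.val h4
    rw [h6, orderOf_one] at hy'
    exact hp.one_lt.ne hy'
  · apply hna
    refine ⟨⟨fun a b => ?_⟩⟩
    have h6 : a ∈ center S := by rw [h5]; exact mem_top a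
    exact (mem_center_iff.1 h6 b).symm

universe u

/-- **The structure of a bad subgroup.** -/
theorem exists_of_bad {T : Type u} [Group T] [Finite T] {p q j : ℕ} (hp : p.Prime) (hq : q.Prime)
    (hpT : p ∣ Nat.card T) (hpp : ¬ p ^ 2 ∣ Nat.card T) (hna : NA p T)
    (hno : ∀ x y : T, orderOf x = p → orderOf y = q → x * y ≠ y * x) (hj : q ^ j ∣ Nat.card T)
    (hev : ∀ (K : Type u) [Group K] [Finite K] [IsSimpleGroup K], ¬ IsMulCommutative K → ∃ t : K, orderOf t = 2)
    (hcop : ∀ (K : Type u) [Group K] [Finite K] [IsSimpleGroup K], ¬ IsMulCommutative K → ¬ p ∣ Nat.card K →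
      CopInv p K) {R : Subgroup T} (hpR : ¬ p ∣ R.index) (hqR : ¬ q ∣ R.index)
    (hcon : ∀ r : ℕ, r.Prime → ∀ M : Subgroup T, M ≤ R → M ≠ ⊥ → IsPGroup r M → ¬ R ≤ normalizer (M : Set T)) :
    ∃ S : Subgroup R, S.Normal ∧ IsSimpleGroup S ∧ ¬ IsMulCommutative S ∧ p ∣ Nat.card S ∧ q ^ j ∣ Nat.card R ∧
      q ^ j ∣ Nat.card S * (p - 1) := by
  have hcardT := R.card_mul_index
  have hdvd : Nat.card R ∣ Nat.card T := card_subgroup_dvd_card R
  have hpR' : p ∣ Nat.card R := by
    rw [← hcardT] at hpT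
    exact (hp.dvd_mul.1 hpT).resolve_right hpR
  have hppR : ¬ p ^ 2 ∣ Nat.card R := fun h => hpp (h.trans hdvd)
  have hqR' : q ^ j ∣ Nat.card R := by
    rw [← hcardT] at hj
    exact (Nat.Coprime.pow_left j ((Nat.Prime.coprime_iff_not_dvd hq).2 hqR)).dvd_of_dvd_mul_right hj
  have hcore : ∀ r : ℕ, r.Prime → pCore r R = ⊥ := by
    intro r hr
    by_contra hne
    have hn : (pCore r R).Normal := Lib.Cores.pCore_normal r
    refine hcon r hr ((pCore r R).map R.subtype) (map_subtype_le _) ?_ ?_ ?_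
    · intro h
      exact hne ((map_eq_bot_iff_of_injective _ R.subtype_injective).1 h)
    · exact (Lib.Cores.pCore_isPGroup r).map R.subtype
    · intro g hg
      rw [mem_normalizer_iff]
      intro y
      constructor
      · rintro ⟨z, hz, rfl⟩
        exact ⟨⟨g, hg⟩ * z * ⟨g, hg⟩⁻¹, hn.conj_mem z hz _, rfl⟩
      · rintro ⟨z, hz, hzy⟩
        refine ⟨⟨g, hg⟩⁻¹ * z * ⟨g, hg⟩, ?_, ?_⟩
        · have := hn.conj_mem z hz (⟨g, hg⟩⁻¹)
          rwa [inv_inv] at this
        · have h1 : (z : T) = g * y * g⁻¹ := hzy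
          show g⁻¹ * (z : T) * g = y
          rw [h1]; group
  have hnt : Nontrivial R := by
    by_contra h
    rw [not_nontrivial_iff_subsingleton] at h
    have h1 : Nat.card R = 1 := Nat.card_unique
    rw [h1] at hpR'
    exact hp.one_lt.ne' (Nat.dvd_one.1 hpR')
  obtain ⟨S, hS, hs, hSna⟩ := exists_comp hcore
  have hSc := isComponent hS hs hSna
  have : Fact p.Prime := ⟨hp⟩
  have hpS : p ∣ Nat.card S := by
    by_contra hpS
    obtain ⟨x, hx⟩ := exists_prime_orderOf_dvd_card' (G := R) p hpR'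
    obtain ⟨u, hu, hxu⟩ := exists_comm_of_not_dvd hp hx hSc hs hSna (hev S hSna) (hcop S hSna hpS)
    exact hna (x : T) (u : T) (by rw [← hx, orderOf_coe]) (by rw [← hu, orderOf_coe]) (congrArg Subtype.val hxu)
  have hSn : S.Normal := by
    refine ⟨fun s hs' g => ?_⟩
    have h1 := cj_eq_of_dvd hp hppR hSc hs hSna hpS g
    have h2 := conj_mem_cj (g := g) hs'
    rwa [h1] at h2
  exact ⟨S, hSn, hs, hSna, hpS, hqR', pow_dvd hp hq hSn hpS hppR (fun x y hx hy hxy => hno (x : T) (y : T)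
    (by rw [← hx, orderOf_coe]) (by rw [← hy, orderOf_coe]) (congrArg Subtype.val hxy)) hqR'⟩

/-- a simple group with a proper subgroup of index `n`: the order divides `n!` -/
theorem card_dvd_factorial {T : Type*} [Group T] [Finite T] [IsSimpleGroup T] {R : Subgroup T} (hR : R ≠ ⊤) :
    Nat.card T ∣ (R.index).factorial := by
  have hk : R.normalCore = ⊥ := by
    rcases (inferInstance : R.normalCore.Normal).eq_bot_or_eq_top with h | h
    · exact h
    · exact absurd (top_le_iff.1 (h ▸ R.normalCore_le)) hR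
  have h1 : (MulAction.toPermHom T (T ⧸ R)).ker = ⊥ := by rw [← Subgroup.normalCore_eq_ker, hk]
  have h2 := Subgroup.card_dvd_of_injective _ ((MonoidHom.ker_eq_bot_iff _).1 h1)
  rwa [Nat.card_perm] at h2

/-- **The criterion.** -/
theorem noBad_of {T : Type u} [Group T] [Finite T] [IsSimpleGroup T] {p q j : ℕ} (hp : p.Prime) (hq : q.Prime)
    (hpT : p ∣ Nat.card T) (hpp : ¬ p ^ 2 ∣ Nat.card T) (hna : NA p T)
    (hno : ∀ x y : T, orderOf x = p → orderOf y = q → x * y ≠ y * x) (hj : q ^ j ∣ Nat.card T)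
    (hev : ∀ (K : Type u) [Group K] [Finite K] [IsSimpleGroup K], ¬ IsMulCommutative K → ∃ t : K, orderOf t = 2)
    (hcop : ∀ (K : Type u) [Group K] [Finite K] [IsSimpleGroup K], ¬ IsMulCommutative K → ¬ p ∣ Nat.card K →
      CopInv p K)
    (hnum : ∀ (K : Type u) [Group K] [Finite K] [IsSimpleGroup K] (a b : ℕ), ¬ IsMulCommutative K →
      Nat.card K * a * b = Nat.card T → p ∣ Nat.card K → q ^ j ∣ Nat.card K * a →
      q ^ j ∣ Nat.card K * (p - 1) → Nat.card T ∣ b.factorial → b = 1) :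
    NoBad p q T := by
  intro R hR hpR hqR
  by_contra hcon
  push Not at hcon
  obtain ⟨S, -, hs, hSna, hpS, hqR', h1⟩ := exists_of_bad hp hq hpT hpp hna hno hj hev hcop hpR hqR hcon
  have h2 := hnum S S.index R.index hSna (by rw [S.card_mul_index, R.card_mul_index]) hpS
    (by rw [S.card_mul_index]; exact hqR') h1 (card_dvd_factorial hR)
  exact hR (index_eq_one.1 h2)

end Cfsg.Agent.H393.Sp
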