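import Mathlib
import Cfsg.Agent.S0713
import Cfsg.Agent.H393.Core

/-!
# Alternating groups have no three proper subgroups of pairwise coprime indices: block lemmas
-/

set_option autoImplicit false
set_option linter.unusedSectionVars false

namespace Cfsg.Agent.H393.Alt

open MulAction Equiv Equiv.Perm
open scoped Pointwise

variable {α : Type*} [Fintype α] [DecidableEq α]

/-- Blocks in elementary form. -/
def Blk (X : Subgroup (Perm α)) (E : Set α) : Prop :=
  ∀ g ∈ X, ∀ x ∈ E, g x ∈ E → ∀ y, y ∈ E ↔ g y ∈ E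

theorem exists_block {X : Subgroup (Perm α)} (ht : IsPretransitive X α)
    (hX : ¬ IsPreprimitive X α) :
    ∃ E : Set α, (∃ x ∈ E, ∃ y ∈ E, x ≠ y) ∧ (∃ z, z ∉ E) ∧ Blk X E := by
  by_contra hc
  push Not at hc
  apply hX
  refine ⟨fun {E} hE => ?_⟩
  by_contra hn
  rw [IsTrivialBlock, not_or] at hn
  obtain ⟨h1, h2⟩ := hn
  rw [Set.not_subsingleton_iff] at h1
  obtain ⟨x, hx, y, hy, hxy⟩ := h1
  obtain ⟨z, hz⟩ := (Set.ne_univ_iff_exists_notMem E).1 h2
  refine hc E ⟨x, hx, y, hy, hxy⟩ ⟨z, hz⟩ ?_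
  intro g hg a ha hga b
  rcases isBlock_iff_smul_eq_or_disjoint.1 hE (⟨g, hg⟩ : X) with h | h
  · constructor
    · intro hb
      have : (⟨g, hg⟩ : X) • b ∈ (⟨g, hg⟩ : X) • E := Set.smul_mem_smul_set hb
      rw [h] at this
      exact this
    · intro hb
      have h3 : g b ∈ (⟨g, hg⟩ : X) • E := by rw [h]; exact hb
      obtain ⟨c, hc1, hc2⟩ := h3
      have : c = b := g.injective hc2
      rwa [← this]
  · exfalso
    have h3 : g a ∈ (⟨g, hg⟩ : X) • E := Set.smul_mem_smul_set (a := (⟨g, hg⟩ : X)) ha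
    exact Set.disjoint_left.1 h h3 hga

theorem Blk.translate {X : Subgroup (Perm α)} {E : Set α} (hE : Blk X E) {h : Perm α}
    (hh : h ∈ X) : Blk X {a | h⁻¹ a ∈ E} := by
  intro g hg a ha hga b
  have h1 : h⁻¹ * g * h ∈ X := X.mul_mem (X.mul_mem (X.inv_mem hh) hg) hh
  have h2 := hE _ h1 (h⁻¹ a) ha (by simpa [Perm.mul_apply] using hga) (h⁻¹ b)
  simpa [Perm.mul_apply] using h2

theorem exists_mem_apply_eq {X : Subgroup (Perm α)} (ht : IsPretransitive X α) (x y : α) :
    ∃ g ∈ X, g x = y := by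
  obtain ⟨g, hg⟩ := exists_smul_eq X x y
  exact ⟨g, g.2, hg⟩

/-- An imprimitive transitive group contains no `q`-cycle for a prime `q > n / 2`. -/
theorem false_of_cycle {X : Subgroup (Perm α)} (ht : IsPretransitive X α)
    (hX : ¬ IsPreprimitive X α) {q : ℕ} (hq : q.Prime) (hqn : Fintype.card α < 2 * q)
    {g : Perm α} (hg : g ∈ X) (hgc : g.IsCycle) (hgq : g.support.card = q) : False := by
  obtain ⟨E₀, ⟨x₀, hx₀, x₁, hx₁, hx01⟩, ⟨z, hz⟩, hE₀⟩ := exists_block ht hX
  obtain ⟨y, hy, hyc⟩ := hgc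
  have hgc : g.IsCycle := ⟨y, hy, hyc⟩
  obtain ⟨h, hh, hhy⟩ := exists_mem_apply_eq ht x₀ y
  obtain ⟨E, hEdef⟩ : ∃ E : Set α, E = {a | h⁻¹ a ∈ E₀} := ⟨_, rfl⟩
  have hE : Blk X E := by rw [hEdef]; exact hE₀.translate hh
  have hyE : y ∈ E := by
    rw [hEdef]
    show h⁻¹ y ∈ E₀
    rw [← hhy]
    simpa using hx₀
  have hwE : h x₁ ∈ E := by
    rw [hEdef]
    show h⁻¹ (h x₁) ∈ E₀
    simpa using hx₁
  have hwy : h x₁ ≠ y := by
    rw [← hhy]
    intro hc
    exact hx01 (h.injective hc).symm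
  have hzE : h z ∉ E := by
    rw [hEdef]
    show ¬ h⁻¹ (h z) ∈ E₀
    simpa using hz
  -- `g` preserves `E`
  have hgy : g y ∈ E := by
    by_contra hgy
    have hw : g (h x₁) ≠ h x₁ := by
      intro hc
      apply hgy
      exact (hE g hg (h x₁) hwE (by rw [hc]; exact hwE) y).1 hyE
    obtain ⟨i, hi⟩ := hgc.exists_pow_eq hy hw
    have h1 : ∀ b, b ∈ E ↔ (g ^ i) b ∈ E :=
      hE (g ^ i) (X.pow_mem hg i) y hyE (by rw [hi]; exact hwE)
    have hord : orderOf g = q := by rw [hgc.orderOf, hgq]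
    have h2 : Nat.Coprime i q := by
      rw [Nat.coprime_comm, Nat.Prime.coprime_iff_not_dvd hq]
      rintro ⟨k, rfl⟩
      apply hwy
      rw [← hi, pow_mul, ← hord, pow_orderOf_eq_one, one_pow, Perm.one_apply]
    obtain ⟨j, hj⟩ : ∃ j : ℕ, (g ^ i) ^ j = g := by
      have h3 : (orderOf g).Coprime i := by rw [hord]; exact h2.symm
      exact exists_pow_eq_self_of_coprime h3.symm
    apply hgy
    have h4 : ∀ (k : ℕ) (b : α), b ∈ E → ((g ^ i) ^ k) b ∈ E := by
      intro k
      induction k with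
      | zero => intro b hb; simpa using hb
      | succ k ih =>
        intro b hb
        rw [pow_succ, Perm.mul_apply]
        exact ih _ ((h1 b).1 hb)
    have := h4 j y hyE
    rwa [hj] at this
  have hgE : ∀ b, b ∈ E ↔ g b ∈ E := hE g hg y hyE hgy
  have hpow : ∀ (k : ℕ), (g ^ k) y ∈ E := by
    intro k
    induction k with
    | zero => simpa using hyE
    | succ k ih =>
      rw [pow_succ', Perm.mul_apply]
      exact (hgE _).1 ih
  have hsupp : (g.support : Set α) ⊆ E := by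
    intro b hb
    rw [Finset.mem_coe, Perm.mem_support] at hb
    obtain ⟨i, hi⟩ := hgc.exists_pow_eq hy hb
    rw [← hi]
    exact hpow i
  -- a disjoint translate
  obtain ⟨k, hk, hkz⟩ := exists_mem_apply_eq ht y (h z)
  have hdis : Disjoint E (k '' E) := by
    rw [Set.disjoint_left]
    rintro a ha ⟨b, hb, rfl⟩
    have := (hE k hk b hb ha y).1 hyE
    rw [hkz] at this
    exact hzE this
  have hc1 : q ≤ E.ncard := by
    rw [← hgq, ← Set.ncard_coe_finset]
    exact Set.ncard_le_ncard hsupp (Set.toFinite _)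
  have hc2 : (k '' E).ncard = E.ncard := Set.ncard_image_of_injective _ k.injective
  have hc3 : (E ∪ k '' E).ncard = E.ncard + (k '' E).ncard :=
    Set.ncard_union_eq hdis (Set.toFinite _) (Set.toFinite _)
  have hc4 : (E ∪ k '' E).ncard ≤ Fintype.card α := by
    rw [← Nat.card_eq_fintype_card, ← Set.ncard_univ]
    exact Set.ncard_le_ncard (Set.subset_univ _) (Set.toFinite _)
  omega

/-! ### Homogeneity -/

/-- The alternating group is transitive on the subsets of a given size. -/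
theorem exists_alt_map {S S' : Finset α} (h : S.card = S'.card) (h3 : 3 ≤ Fintype.card α) :
    ∃ g : Perm α, sign g = 1 ∧ S.image g = S' := by
  classical
  have e : {x // x ∈ S} ≃ {x // x ∈ S'} := Fintype.equivOfCardEq (by simpa using h)
  obtain ⟨σ, hσ⟩ : ∃ σ : Perm α, ∀ x ∈ S, σ x ∈ S' :=
    ⟨e.extendSubtype, fun x hx => Equiv.extendSubtype_mem e x hx⟩
  have himg : S.image σ = S' := by
    apply Finset.eq_of_subset_of_card_le
    · intro y hy
      obtain ⟨x, hx, rfl⟩ := Finset.mem_image.1 hy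
      exact hσ x hx
    · rw [Finset.card_image_of_injective _ σ.injective, h]
  rcases Int.units_eq_one_or (sign σ) with hs | hs
  · exact ⟨σ, hs, himg⟩
  · have hsum := Finset.card_add_card_compl S'
    have hex : ∃ x y : α, x ≠ y ∧ (x ∈ S' ↔ y ∈ S') := by
      rcases Nat.lt_or_ge 1 S'.card with h1 | h1
      · obtain ⟨x, hx, y, hy, hxy⟩ := Finset.one_lt_card.1 h1
        exact ⟨x, y, hxy, by simp [hx, hy]⟩
      · have h2 : 1 < (S'ᶜ).card := by omega
        obtain ⟨x, hx, y, hy, hxy⟩ := Finset.one_lt_card.1 h2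
        rw [Finset.mem_compl] at hx hy
        exact ⟨x, y, hxy, by simp [hx, hy]⟩
    obtain ⟨x, y, hxy, hiff⟩ := hex
    refine ⟨swap x y * σ, ?_, ?_⟩
    · rw [Equiv.Perm.sign_mul, sign_swap hxy, hs]
      rfl
    · have h5 : S.image (swap x y * σ) = S'.image (swap x y) := by
        rw [← himg, Finset.image_image]
        rfl
      rw [h5]
      apply Finset.eq_of_subset_of_card_le
      · intro a ha
        obtain ⟨b, hb, rfl⟩ := Finset.mem_image.1 ha
        by_cases hbx : b = x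
        · rw [hbx, swap_apply_left]
          rw [hbx] at hb
          exact hiff.1 hb
        · by_cases hby : b = y
          · rw [hby, swap_apply_right]
            rw [hby] at hb
            exact hiff.2 hb
          · rw [swap_apply_of_ne_of_ne hbx hby]
            exact hb
      · rw [Finset.card_image_of_injective _ (swap x y).injective]

/-- Every alternating permutation is a product. -/
def Fac (B A : Subgroup (Perm α)) : Prop := ∀ g : Perm α, sign g = 1 → ∃ b ∈ B, ∃ a ∈ A, g = b * a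

theorem Fac.exists_image {B A : Subgroup (Perm α)} (h : Fac B A) {D : Finset α}
    (hD : ∀ a ∈ A, D.image a = D) (h3 : 3 ≤ Fintype.card α) {S : Finset α}
    (hS : S.card = D.card) : ∃ b ∈ B, D.image b = S := by
  obtain ⟨g, hg, hgS⟩ := exists_alt_map hS.symm h3
  obtain ⟨b, hb, a, ha, rfl⟩ := h g hg
  refine ⟨b, hb, ?_⟩
  rw [← hgS]
  have h5 : D.image (b * a) = (D.image a).image b := by
    rw [Finset.image_image]; rfl
  rw [h5, hD a ha]

/-- Two intransitive groups do not factorise the alternating group. -/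
theorem false_of_two_intransitive {A B : Subgroup (Perm α)} (h : Fac B A) {D D' : Finset α}
    (hD : ∀ a ∈ A, D.image a = D) (hD' : ∀ b ∈ B, D'.image b = D')
    (h1 : 1 ≤ D.card) (h2 : 2 * D.card ≤ Fintype.card α) (h1' : 1 ≤ D'.card)
    (h2' : 2 * D'.card ≤ Fintype.card α) (h3 : 3 ≤ Fintype.card α) : False := by
  have hsum := Finset.card_add_card_compl D'
  obtain ⟨S, hS, hSc⟩ := Finset.exists_subset_card_eq (s := D'ᶜ) (n := D.card) (by omega)
  obtain ⟨x, hx⟩ := Finset.card_pos.1 (Nat.lt_of_lt_of_le Nat.zero_lt_one h1')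
  obtain ⟨S', hS', -, hSc'⟩ := Finset.exists_subsuperset_card_eq (s := {x}) (t := Finset.univ)
    (n := D.card) (Finset.subset_univ _) (by simpa using h1) (by rw [Finset.card_univ]; omega)
  have hxS' : x ∈ S' := hS' (Finset.mem_singleton_self x)
  obtain ⟨b, hb, hbS⟩ := h.exists_image hD h3 hSc
  obtain ⟨b', hb', hbS'⟩ := h.exists_image hD h3 hSc'
  -- `b' b⁻¹` maps `S` to `S'` and preserves `D'`
  have hx' : b * b'⁻¹ ∈ B := B.mul_mem hb (B.inv_mem hb')
  have hxD : b'⁻¹ x ∈ D := by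
    rw [← hbS'] at hxS'
    obtain ⟨y, hy, hyx⟩ := Finset.mem_image.1 hxS'
    rw [← hyx]
    simpa using hy
  have h5 : b (b'⁻¹ x) ∈ S := by
    rw [← hbS]
    exact Finset.mem_image_of_mem _ hxD
  have h6 : b (b'⁻¹ x) ∈ D' := by
    rw [← hD' _ hx']
    exact Finset.mem_image_of_mem (b * b'⁻¹) hx
  exact (Finset.mem_compl.1 (hS h5)) h6

/-- An imprimitive group is not homogeneous of degree `k`, `2 ≤ k ≤ n / 2`. -/
theorem false_of_imprimitive {A B : Subgroup (Perm α)} (h : Fac B A) (ht : IsPretransitive B α)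
    (hB : ¬ IsPreprimitive B α) {D : Finset α} (hD : ∀ a ∈ A, D.image a = D)
    (h1 : 2 ≤ D.card) (h2 : 2 * D.card ≤ Fintype.card α) : False := by
  classical
  obtain ⟨E, ⟨x, hx, u, hu, hxu⟩, ⟨z, hz⟩, hE⟩ := exists_block ht hB
  have h3 : 3 ≤ Fintype.card α := by omega
  obtain ⟨g₀, hg₀, hg₀x⟩ := exists_mem_apply_eq ht x z
  -- the block of `z`
  obtain ⟨Ez, hEz⟩ : ∃ Ez : Finset α, Ez = (Finset.univ.filter (fun a => a ∈ E)).image g₀ :=
    ⟨_, rfl⟩
  have hmemEz : ∀ a, a ∈ Ez ↔ g₀⁻¹ a ∈ E := by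
    intro a
    rw [hEz, Finset.mem_image]
    constructor
    · rintro ⟨b, hb, rfl⟩
      simpa using hb
    · intro ha
      exact ⟨g₀⁻¹ a, by simpa using ha, by simp⟩
  have hdisj : ∀ a ∈ E, a ∉ Ez := by
    intro a ha haz
    rw [hmemEz] at haz
    -- `g₀` maps `g₀⁻¹ a ∈ E` to `a ∈ E`
    have h5 := (hE g₀ hg₀ (g₀⁻¹ a) haz (by simpa using ha) x).1 hx
    rw [hg₀x] at h5
    exact hz h5
  have hcardz : 2 * Ez.card ≤ Fintype.card α := by
    have h5 : Ez.card = (Finset.univ.filter (fun a => a ∈ E)).card := by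
      rw [hEz, Finset.card_image_of_injective _ g₀.injective]
    have h6 : Disjoint Ez (Finset.univ.filter (fun a => a ∈ E)) := by
      rw [Finset.disjoint_right]
      intro a ha
      exact hdisj a (Finset.mem_filter.1 ha).2
    have h7 := Finset.card_union_of_disjoint h6
    have h8 : (Ez ∪ (Finset.univ.filter (fun a => a ∈ E))).card ≤ Fintype.card α :=
      Finset.card_le_univ _
    omega
  have huz : u ∉ Ez := hdisj u hu
  have hxz : x ∉ Ez := hdisj x hx
  -- the set `S'`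
  have hsub : ({u} : Finset α) ⊆ (Ezᶜ).erase x := by
    rw [Finset.singleton_subset_iff, Finset.mem_erase]
    exact ⟨hxu.symm, Finset.mem_compl.2 huz⟩
  have hcs := Finset.card_add_card_compl Ez
  have hce : ((Ezᶜ).erase x).card = (Ezᶜ).card - 1 :=
    Finset.card_erase_of_mem (Finset.mem_compl.2 hxz)
  obtain ⟨S', hS1, hS2, hS3⟩ := Finset.exists_subsuperset_card_eq (n := D.card - 1) hsub
    (by rw [Finset.card_singleton]; omega) (by omega)
  have huS : u ∈ S' := hS1 (Finset.mem_singleton_self u)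
  have hxS : x ∉ S' := fun hc => (Finset.mem_erase.1 (hS2 hc)).1 rfl
  have hzEz : z ∈ Ez := by
    rw [hmemEz, ← hg₀x]
    simpa using hx
  have hzS : z ∉ S' := fun hc => (Finset.mem_compl.1 (Finset.mem_erase.1 (hS2 hc)).2) hzEz
  -- the invariant relation
  let r : α → α → Prop := fun a b => ∃ g ∈ B, g⁻¹ a ∈ E ∧ g⁻¹ b ∈ E
  have hr : ∀ g ∈ B, ∀ a b, r a b → r (g a) (g b) := by
    rintro g hg a b ⟨k, hk, h5, h6⟩
    refine ⟨g * k, B.mul_mem hg hk, ?_, ?_⟩
    · simpa [mul_inv_rev, Perm.mul_apply] using h5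
    · simpa [mul_inv_rev, Perm.mul_apply] using h6
  have hr' : ∀ g ∈ B, ∀ a b, r (g a) (g b) ↔ r a b := by
    intro g hg a b
    refine ⟨fun h5 => ?_, hr g hg a b⟩
    have := hr g⁻¹ (B.inv_mem hg) _ _ h5
    simpa using this
  have hrefl : ∀ a, r a a := by
    intro a
    obtain ⟨g, hg, hgx⟩ := exists_mem_apply_eq ht x a
    refine ⟨g, hg, ?_, ?_⟩ <;> (rw [← hgx]; simpa using hx)
  have hrz : ∀ b ∈ S', ¬ r z b := by
    rintro b hb ⟨k, hk, h5, h6⟩
    apply Finset.mem_compl.1 (Finset.mem_erase.1 (hS2 hb)).2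
    rw [hmemEz]
    have h7 : g₀⁻¹ * k ∈ B := B.mul_mem (B.inv_mem hg₀) hk
    have h9 : (g₀⁻¹ * k) (k⁻¹ z) ∈ E := by
      have h10 : (g₀⁻¹ * k) (k⁻¹ z) = x := by
        rw [← hg₀x]
        simp [Perm.mul_apply]
      rw [h10]
      exact hx
    have h8 := (hE _ h7 (k⁻¹ z) h5 h9 (k⁻¹ b)).1 h6
    simpa [Perm.mul_apply] using h8
  have hrz' : ∀ b ∈ S', ¬ r b z := by
    rintro b hb ⟨k, hk, h5, h6⟩
    exact hrz b hb ⟨k, hk, h6, h5⟩
  have hrxu : r x u := ⟨1, B.one_mem, by simpa using hx, by simpa using hu⟩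
  let c : Finset α → ℕ := fun S => ((S ×ˢ S).filter (fun p => r p.1 p.2)).card
  have hc : ∀ g ∈ B, ∀ S : Finset α, c (S.image g) = c S := by
    intro g hg S
    have h5 : ((S.image g ×ˢ S.image g).filter (fun p => r p.1 p.2)) =
        ((S ×ˢ S).filter (fun p => r p.1 p.2)).image (fun p => (g p.1, g p.2)) := by
      ext ⟨a, b⟩
      simp only [Finset.mem_filter, Finset.mem_product, Finset.mem_image, Prod.exists, Prod.mk.injEq]
      constructor
      · rintro ⟨⟨⟨a', ha', rfl⟩, ⟨b', hb', rfl⟩⟩, h6⟩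
        exact ⟨a', b', ⟨⟨ha', hb'⟩, (hr' g hg _ _).1 h6⟩, rfl, rfl⟩
      · rintro ⟨a', b', ⟨⟨ha', hb'⟩, h6⟩, rfl, rfl⟩
        exact ⟨⟨⟨a', ha', rfl⟩, ⟨b', hb', rfl⟩⟩, hr g hg _ _ h6⟩
    show ((S.image g ×ˢ S.image g).filter (fun p => r p.1 p.2)).card = _
    rw [h5, Finset.card_image_of_injective]
    rintro ⟨a, b⟩ ⟨a', b'⟩ h6
    simp only [Prod.mk.injEq] at h6
    rw [g.injective h6.1, g.injective h6.2]
  have hcard1 : (insert x S').card = D.card := by
    rw [Finset.card_insert_of_notMem hxS]; omega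
  have hcard2 : (insert z S').card = D.card := by
    rw [Finset.card_insert_of_notMem hzS]; omega
  obtain ⟨b₁, hb₁, hb₁'⟩ := h.exists_image hD h3 hcard1
  obtain ⟨b₂, hb₂, hb₂'⟩ := h.exists_image hD h3 hcard2
  have heq : c (insert x S') = c (insert z S') := by
    rw [← hb₁', ← hb₂', hc b₁ hb₁, hc b₂ hb₂]
  -- upper bound for `z`
  have hup : c (insert z S') ≤ c S' + 1 := by
    have h5 : ((insert z S' ×ˢ insert z S').filter (fun p => r p.1 p.2)) ⊆
        insert (z, z) ((S' ×ˢ S').filter (fun p => r p.1 p.2)) := by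
      rintro ⟨a, b⟩ hab
      simp only [Finset.mem_filter, Finset.mem_product, Finset.mem_insert] at hab ⊢
      obtain ⟨⟨ha, hb⟩, hab⟩ := hab
      rcases ha with rfl | ha
      · rcases hb with rfl | hb
        · exact Or.inl rfl
        · exact absurd hab (hrz b hb)
      · rcases hb with rfl | hb
        · exact absurd hab (hrz' a ha)
        · exact Or.inr ⟨⟨ha, hb⟩, hab⟩
    exact (Finset.card_le_card h5).trans (Finset.card_insert_le _ _)
  have hlo : c S' + 2 ≤ c (insert x S') := by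
    have h5 : insert (x, x) (insert (x, u) ((S' ×ˢ S').filter (fun p => r p.1 p.2))) ⊆
        ((insert x S' ×ˢ insert x S').filter (fun p => r p.1 p.2)) := by
      rintro ⟨a, b⟩ hab
      simp only [Finset.mem_filter, Finset.mem_product, Finset.mem_insert, Prod.mk.injEq] at hab ⊢
      rcases hab with ⟨rfl, rfl⟩ | ⟨rfl, rfl⟩ | ⟨⟨ha, hb⟩, hab⟩
      · exact ⟨⟨Or.inl rfl, Or.inl rfl⟩, hrefl _⟩
      · exact ⟨⟨Or.inl rfl, Or.inr huS⟩, hrxu⟩
      · exact ⟨⟨Or.inr ha, Or.inr hb⟩, hab⟩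
    have h6 : (x, u) ∉ ((S' ×ˢ S').filter (fun p => r p.1 p.2)) := by
      intro hc
      exact hxS (Finset.mem_product.1 (Finset.mem_filter.1 hc).1).1
    have h7 : (x, x) ∉ insert (x, u) ((S' ×ˢ S').filter (fun p => r p.1 p.2)) := by
      rw [Finset.mem_insert, not_or]
      refine ⟨fun hc => hxu (Prod.mk.inj hc).2, fun hc => ?_⟩
      exact hxS (Finset.mem_product.1 (Finset.mem_filter.1 hc).1).1
    have h8 := Finset.card_le_card h5
    rw [Finset.card_insert_of_notMem h7, Finset.card_insert_of_notMem h6] at h8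
    exact h8
  omega

end Cfsg.Agent.H393.Alt
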