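import Mathlib
import Cfsg.Agent.H393.AltBlocks

/-!
# Alternating groups have no three proper subgroups of pairwise coprime indices
-/

set_option autoImplicit false
set_option linter.unusedSectionVars false

namespace Cfsg.Agent.H393.Alt

open MulAction Equiv Equiv.Perm

variable {α : Type*} [Fintype α] [DecidableEq α]

/-- The subgroup of `Perm α` underlying a subgroup of the alternating group. -/
abbrev up (X : Subgroup (alternatingGroup α)) : Subgroup (Perm α) :=
  X.map (alternatingGroup α).subtype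

theorem mem_up {X : Subgroup (alternatingGroup α)} {g : alternatingGroup α} :
    (g : Perm α) ∈ up X ↔ g ∈ X := by
  constructor
  · rintro ⟨h, hh, hhg⟩
    have : h = g := Subtype.ext hhg
    rwa [← this]
  · intro h
    exact ⟨g, h, rfl⟩

theorem ne_top_of {X : Subgroup (alternatingGroup α)} (hX : X ≠ ⊤) :
    ¬ alternatingGroup α ≤ up X := by
  intro h
  apply hX
  rw [eq_top_iff]
  intro g _
  exact mem_up.1 (h g.2)

theorem fac_of_coprime {A B : Subgroup (alternatingGroup α)} (h : B.index.Coprime A.index) :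
    Fac (up B) (up A) := by
  intro g hg
  obtain ⟨b, hb, a, ha, hba⟩ := S0007.exists_mul_eq B A h ⟨g, hg⟩
  refine ⟨b, mem_up.2 hb, a, mem_up.2 ha, ?_⟩
  exact congrArg Subtype.val hba

/-- A subgroup of index prime to the odd prime `q` contains a `q`-cycle. -/
theorem exists_cycle {X : Subgroup (alternatingGroup α)} {q : ℕ} (hq : q.Prime) (hq2 : q ≠ 2)
    (hqn : q ≤ Fintype.card α) (hX : ¬ q ∣ X.index) :
    ∃ g ∈ up X, g.IsCycle ∧ g.support.card = q := by
  have : Fact q.Prime := ⟨hq⟩
  obtain ⟨c, hc⟩ := (Equiv.Perm.exists_with_cycleType_iff α (m := {q})).2 ⟨by simpa using hqn, by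
    intro a ha
    rw [Multiset.mem_singleton] at ha
    rw [ha]
    exact hq.two_le⟩
  have hcc : c.IsCycle := by
    rw [← Equiv.Perm.card_cycleType_eq_one, hc]
    rfl
  have hcs : c.support.card = q := by
    rw [← Equiv.Perm.sum_cycleType, hc]
    simp
  have hsign : sign c = 1 := by
    rw [hcc.sign, hcs, (hq.odd_of_ne_two hq2).neg_one_pow, neg_neg]
  obtain ⟨t, ht⟩ : ∃ t : alternatingGroup α, t = ⟨c, hsign⟩ := ⟨_, rfl⟩
  have htq : t ^ q = 1 := by
    apply Subtype.ext
    rw [ht]
    show c ^ q = 1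
    rw [← hcs, ← hcc.orderOf, pow_orderOf_eq_one]
  have hP : IsPGroup q (Subgroup.zpowers t) := by
    rw [IsPGroup.iff_card]
    have h1 : Nat.card (Subgroup.zpowers t) ∣ q ^ 1 := by
      rw [Nat.card_zpowers, pow_one]
      exact orderOf_dvd_of_pow_eq_one htq
    obtain ⟨k, -, hk⟩ := (Nat.dvd_prime_pow hq).1 h1
    exact ⟨k, hk⟩
  have hcard : ¬ q ∣ Nat.card (alternatingGroup α ⧸ X) := hX
  obtain ⟨x, hx⟩ := hP.nonempty_fixed_point_of_prime_not_dvd_card (alternatingGroup α ⧸ X) hcard
  obtain ⟨g, rfl⟩ := QuotientGroup.mk_surjective x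
  have h2 := hx ⟨t, Subgroup.mem_zpowers t⟩
  have h3 : ((t * g : alternatingGroup α) : alternatingGroup α ⧸ X) = (g : alternatingGroup α ⧸ X) :=
    h2
  rw [eq_comm, QuotientGroup.eq] at h3
  refine ⟨_, mem_up.2 h3, ?_, ?_⟩
  · have h4 : ((g⁻¹ * (t * g) : alternatingGroup α) : Perm α) =
        (g : Perm α)⁻¹ * c * (g : Perm α)⁻¹⁻¹ := by
      rw [ht]
      show (g : Perm α)⁻¹ * (c * (g : Perm α)) = _
      group
    rw [h4]
    exact hcc.conj
  · have h4 : ((g⁻¹ * (t * g) : alternatingGroup α) : Perm α) =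
        (g : Perm α)⁻¹ * c * (g : Perm α)⁻¹⁻¹ := by
      rw [ht]
      show (g : Perm α)⁻¹ * (c * (g : Perm α)) = _
      group
    rw [h4, Equiv.Perm.card_support_conj, hcs]

/-- An intransitive group preserves a set of size at most `n / 2`. -/
theorem exists_inv_set {X : Subgroup (Perm α)} (hn : 1 ≤ Fintype.card α)
    (hX : ¬ IsPretransitive X α) :
    ∃ D : Finset α, 1 ≤ D.card ∧ 2 * D.card ≤ Fintype.card α ∧ ∀ g ∈ X, D.image g = D := by
  classical
  have hne : Nonempty α := Fintype.card_pos_iff.1 hn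
  obtain ⟨x, y, hxy⟩ : ∃ x y : α, ∀ g ∈ X, g x ≠ y := by
    by_contra hc
    push Not at hc
    apply hX
    refine ⟨fun x y => ?_⟩
    obtain ⟨g, hg, hgx⟩ := hc x y
    exact ⟨⟨g, hg⟩, hgx⟩
  obtain ⟨D, hD⟩ : ∃ D : Finset α, D = Finset.univ.filter (fun a => ∃ g ∈ X, g x = a) := ⟨_, rfl⟩
  have hmem : ∀ a, a ∈ D ↔ ∃ g ∈ X, g x = a := by intro a; simp [hD]
  have hxD : x ∈ D := (hmem x).2 ⟨1, X.one_mem, rfl⟩
  have hyD : y ∉ D := by
    intro h
    obtain ⟨g, hg, hgx⟩ := (hmem y).1 h
    exact hxy g hg hgx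
  have hinv : ∀ g ∈ X, D.image g = D := by
    intro g hg
    apply Finset.eq_of_subset_of_card_le
    · intro a ha
      obtain ⟨b, hb, rfl⟩ := Finset.mem_image.1 ha
      obtain ⟨k, hk, rfl⟩ := (hmem b).1 hb
      exact (hmem _).2 ⟨g * k, X.mul_mem hg hk, rfl⟩
    · rw [Finset.card_image_of_injective _ g.injective]
  have hinv' : ∀ g ∈ X, (Dᶜ).image g = Dᶜ := by
    intro g hg
    apply Finset.eq_of_subset_of_card_le
    · intro a ha
      obtain ⟨b, hb, rfl⟩ := Finset.mem_image.1 ha
      rw [Finset.mem_compl] at hb ⊢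
      intro hc
      rw [← hinv g hg] at hc
      obtain ⟨d, hd, hdb⟩ := Finset.mem_image.1 hc
      rw [g.injective hdb] at hd
      exact hb hd
    · rw [Finset.card_image_of_injective _ g.injective]
  have hsum := Finset.card_add_card_compl D
  have h1 : 1 ≤ D.card := Finset.card_pos.2 ⟨x, hxD⟩
  have h2 : 1 ≤ (Dᶜ).card := Finset.card_pos.2 ⟨y, Finset.mem_compl.2 hyD⟩
  by_cases h : 2 * D.card ≤ Fintype.card α
  · exact ⟨D, h1, h, hinv⟩
  · exact ⟨Dᶜ, h2, by omega, hinv'⟩

theorem eq_of_primitive {X : Subgroup (alternatingGroup α)} (hX : X ≠ ⊤)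
    (hp : IsPreprimitive (up X) α) {q : ℕ} (hq : q.Prime) (hn : 5 ≤ Fintype.card α)
    (hqn : q + 3 ≤ Fintype.card α) {g : Perm α} (hg : g ∈ up X) (hgc : g.IsCycle)
    (hgs : g.support.card = q) : False :=
  ne_top_of hX (S0713.result (up X) hp hq hn hqn hgc hgs hg)

theorem cop_false {a b r : ℕ} (hr : r.Prime) (hab : a.Coprime b) (ha : r ∣ a) (hb : r ∣ b) :
    False := by
  have := Nat.dvd_gcd ha hb
  rw [hab] at this
  exact hr.one_lt.ne' (Nat.dvd_one.1 this)

/-- Having a Sylow `3`-subgroup and being transitive implies imprimitive. -/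
theorem not_primitive_of_three {X : Subgroup (alternatingGroup α)} (hX : X ≠ ⊤)
    (hn : 5 ≤ Fintype.card α) (h3 : ¬ 3 ∣ X.index) : ¬ IsPreprimitive (up X) α := by
  intro hp
  obtain ⟨g, hg, hgc, hgs⟩ := exists_cycle Nat.prime_three (by norm_num) (by omega) h3
  refine ne_top_of hX ?_
  exact Equiv.Perm.alternatingGroup_le_of_isPreprimitive_of_isThreeCycle_mem hp
    (card_support_eq_three_iff.1 hgs) hg

/-- The final configuration: `A` intransitive, `B`, `C` transitive, `B` imprimitive. -/
theorem final {A B C : Subgroup (alternatingGroup α)} (hC : C ≠ ⊤)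
    (hn : 5 ≤ Fintype.card α) (hAB : A.index.Coprime B.index) (hAC : A.index.Coprime C.index)
    (hBC : B.index.Coprime C.index)
    (hAi : ¬ IsPretransitive (up A) α) (hBt : IsPretransitive (up B) α)
    (hBi : ¬ IsPreprimitive (up B) α) (hCp : IsPreprimitive (up C) α)
    (hC3 : 3 ∣ C.index) : False := by
  -- `n` divides the index of `A`
  obtain ⟨D, hD1, hD2, hD⟩ := exists_inv_set (by omega) hAi
  have hD1' : D.card = 1 := by
    by_contra hc
    exact false_of_imprimitive (fac_of_coprime hAB.symm) hBt hBi hD (by omega) hD2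
  obtain ⟨a, ha⟩ := Finset.card_eq_one.1 hD1'
  have hfix : ∀ g ∈ up A, g a = a := by
    intro g hg
    have h1 := hD g hg
    rw [ha, Finset.image_singleton, Finset.singleton_inj] at h1
    exact h1
  have hnA : Fintype.card α ∣ A.index := by
    have h3 : (3 : ℕ) ≤ Nat.card α := by rw [Nat.card_eq_fintype_card]; omega
    have htr : IsPretransitive (alternatingGroup α) α :=
      alternatingGroup.isPretransitive_of_three_le_card α h3
    have h1 : (stabilizer (alternatingGroup α) a).index = Fintype.card α := by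
      rw [index_stabilizer_of_transitive, Nat.card_eq_fintype_card]
    rw [← h1]
    apply Subgroup.index_dvd_of_le
    intro g hg
    exact hfix g (mem_up.2 hg)
  -- odd primes
  have hlarge : ∀ q : ℕ, q.Prime → q ≠ 2 → q ≤ Fintype.card α → Fintype.card α < 2 * q →
      q ∣ B.index := by
    intro q hq hq2 hqn hq1
    by_contra hc
    obtain ⟨g, hg, hgc, hgs⟩ := exists_cycle hq hq2 hqn hc
    exact false_of_cycle hBt hBi hq hq1 hg hgc hgs
  have hsmall : ∀ q : ℕ, q.Prime → q ≠ 2 → q + 3 ≤ Fintype.card α → q ∣ C.index := by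
    intro q hq hq2 hqn
    by_contra hc
    obtain ⟨g, hg, hgc, hgs⟩ := exists_cycle hq hq2 (by omega) hc
    exact eq_of_primitive hC hCp hq hn hqn hg hgc hgs
  have hodd : ∀ q : ℕ, q.Prime → q ∣ Fintype.card α → q = 2 := by
    intro q hq hqn
    by_contra hq2
    have hle : q ≤ Fintype.card α := Nat.le_of_dvd (by omega) hqn
    by_cases h1 : q + 3 ≤ Fintype.card α
    · exact cop_false hq hAC (hqn.trans hnA) (hsmall q hq hq2 h1)
    · have h2 : Fintype.card α < 2 * q := by
        by_contra h3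
        push Not at h3
        omega
      exact cop_false hq hAB (hqn.trans hnA) (hlarge q hq hq2 hle h2)
  -- `n` is a power of two
  obtain ⟨e, he⟩ : ∃ e : ℕ, Fintype.card α = 2 ^ e := by
    have h1 := Nat.eq_prime_pow_of_unique_prime_dvd (n := Fintype.card α) (p := 2) (by omega)
      (fun {d} hd hdn => hodd d hd hdn)
    exact ⟨_, h1⟩
  obtain ⟨f, rfl⟩ : ∃ f : ℕ, e = f + 3 := by
    have : 3 ≤ e := by
      by_contra hc
      push Not at hc
      have : e = 0 ∨ e = 1 ∨ e = 2 := by omega
      rcases this with h | h | h <;> (rw [h] at he; norm_num at he; omega)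
    exact ⟨e - 3, by omega⟩
  have hm : Fintype.card α = 2 * (2 * (2 * 2 ^ f)) := by rw [he, pow_add]; ring
  have hfpos : 1 ≤ 2 ^ f := Nat.one_le_two_pow
  obtain ⟨q, hq, hq1, hq2⟩ := Nat.exists_prime_lt_and_le_two_mul (2 * (2 * 2 ^ f) - 1) (by omega)
  have hqm : q ≠ 2 * (2 * 2 ^ f) := by
    rintro rfl
    have h1 : 2 ∣ 2 * (2 * 2 ^ f) := Dvd.intro _ rfl
    rcases (Nat.dvd_prime hq).1 h1 with h2 | h2 <;> omega
  have hqn2 : q ≠ Fintype.card α - 2 := by
    intro h
    have h1 : 2 ∣ q := by
      rw [h, hm]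
      exact Dvd.intro (2 * (2 * 2 ^ f) - 1) (by omega)
    rcases (Nat.dvd_prime hq).1 h1 with h2 | h2 <;> omega
  have hq22 : q ≠ 2 := by omega
  exact cop_false hq hBC (hlarge q hq hq22 (by omega) (by omega)) (hsmall q hq hq22 (by omega))

theorem noThree_alternating (hn : 5 ≤ Fintype.card α) : NoThree (alternatingGroup α) := by
  intro A B C hA hB hC h1 h2 h3
  -- a Bertrand prime
  obtain ⟨p, hp, hp1, hp2⟩ := Nat.exists_prime_lt_and_le_two_mul (Fintype.card α / 2) (by omega)
  have hp2' : p ≠ 2 := by omega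
  have hpn : p ≤ Fintype.card α := by omega
  have hpn2 : Fintype.card α < 2 * p := by omega
  -- transitive groups with a `p`-cycle are primitive
  have hprim : ∀ X : Subgroup (alternatingGroup α), IsPretransitive (up X) α → ¬ p ∣ X.index →
      IsPreprimitive (up X) α := by
    intro X ht hpX
    by_contra hc
    obtain ⟨g, hg, hgc, hgs⟩ := exists_cycle hp hp2' hpn hpX
    exact false_of_cycle ht hc hp hpn2 hg hgc hgs
  -- not both intransitive
  have hint : ∀ X Y : Subgroup (alternatingGroup α), X.index.Coprime Y.index →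
      ¬ IsPretransitive (up X) α → ¬ IsPretransitive (up Y) α → False := by
    intro X Y hXY hX hY
    obtain ⟨D, hD1, hD2, hD⟩ := exists_inv_set (by omega) hX
    obtain ⟨D', hD1', hD2', hD'⟩ := exists_inv_set (by omega) hY
    exact false_of_two_intransitive (fac_of_coprime hXY.symm) hD hD' hD1 hD2 hD1' hD2' (by omega)
  -- a subgroup with both primes is intransitive
  have hboth : ∀ X : Subgroup (alternatingGroup α), X ≠ ⊤ → ¬ 3 ∣ X.index → ¬ p ∣ X.index →
      ¬ IsPretransitive (up X) α := by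
    intro X hX h3X hpX ht
    exact not_primitive_of_three hX hn h3X (hprim X ht hpX)
  -- the main case
  have main : ∀ A B C : Subgroup (alternatingGroup α), A ≠ ⊤ → B ≠ ⊤ → C ≠ ⊤ →
      A.index.Coprime B.index → A.index.Coprime C.index → B.index.Coprime C.index →
      ¬ 3 ∣ A.index → ¬ p ∣ A.index → ¬ 3 ∣ B.index → False := by
    intro A B C hA hB hC h1 h2 h3 h3A hpA h3B
    have hAi := hboth A hA h3A hpA
    have hBt : IsPretransitive (up B) α := by
      by_contra hc
      exact hint A B h1 hAi hc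
    have hCt : IsPretransitive (up C) α := by
      by_contra hc
      exact hint A C h2 hAi hc
    have hBi := not_primitive_of_three hB hn h3B
    have hpB : p ∣ B.index := by
      by_contra hc
      exact hBi (hprim B hBt hc)
    have hpC : ¬ p ∣ C.index := fun hc => cop_false hp h3 hpB hc
    have hCp := hprim C hCt hpC
    have hC3 : 3 ∣ C.index := by
      by_contra hc
      exact not_primitive_of_three hC hn hc hCp
    exact final hC hn h1 h2 h3 hAi hBt hBi hCp hC3
  -- distribution of the primes `3` and `p`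
  have main' : ∀ A B C : Subgroup (alternatingGroup α), A ≠ ⊤ → B ≠ ⊤ → C ≠ ⊤ →
      A.index.Coprime B.index → A.index.Coprime C.index → B.index.Coprime C.index →
      ¬ 3 ∣ A.index → ¬ p ∣ A.index → False := by
    intro A B C hA hB hC h1 h2 h3 h3A hpA
    by_cases h3B : 3 ∣ B.index
    · have h3C : ¬ 3 ∣ C.index := fun hc => cop_false Nat.prime_three h3 h3B hc
      exact main A C B hA hC hB h2 h1 h3.symm h3A hpA h3C
    · exact main A B C hA hB hC h1 h2 h3 h3A hpA h3B
  by_cases h3A : 3 ∣ A.index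
  · have h3B : ¬ 3 ∣ B.index := fun hc => cop_false Nat.prime_three h1 h3A hc
    have h3C : ¬ 3 ∣ C.index := fun hc => cop_false Nat.prime_three h2 h3A hc
    by_cases hpB : p ∣ B.index
    · have hpC : ¬ p ∣ C.index := fun hc => cop_false hp h3 hpB hc
      exact main' C A B hC hA hB h2.symm h3.symm h1 h3C hpC
    · exact main' B A C hB hA hC h1.symm h3 h2 h3B hpB
  · by_cases hpA : p ∣ A.index
    · have hpB : ¬ p ∣ B.index := fun hc => cop_false hp h1 hpA hc
      have hpC : ¬ p ∣ C.index := fun hc => cop_false hp h2 hpA hc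
      by_cases h3B : 3 ∣ B.index
      · have h3C : ¬ 3 ∣ C.index := fun hc => cop_false Nat.prime_three h3 h3B hc
        exact main' C A B hC hA hB h2.symm h3.symm h1 h3C hpC
      · exact main' B A C hB hA hC h1.symm h3 h2 h3B hpB
    · exact main' A B C hA hB hC h1 h2 h3 h3A hpA

end Cfsg.Agent.H393.Alt
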