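import Cfsg.Agent.H393.LieBad
import Cfsg.Agent.Mrg.Omega.ML.LieRow.Lie
import Cfsg.Agent.FixBN.ReeSplit
import Cfsg.Agent.Nodes.RGDLie

/-!
# Simple groups of Lie type have no three proper subgroups of pairwise coprime indices
-/

set_option autoImplicit false

namespace Cfsg.Agent.H393

open Cfsg Cfsg.Agent.FixBN

/-- every simple group of Lie type has a split (B,N)-pair -/
theorem hasSplit_of_lie {p : ℕ} (hp : p.Prime) {K : Type*} [Group K] [IsSimpleGroup K]
    (h : IsLieTypeChar p K) : HasSplit p K := by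
  rcases Nodes.RGDLie.hasRGD_of_lie h with h1 | ⟨rfl, -⟩ | ⟨rfl, -⟩ | ⟨rfl, h1⟩
  · exact Omega.ML.LieRow.hasSplit_of_rgd hp h1
  · exact Omega.ML.LieRow.hasSplit_of_lie h
  · exact Omega.ML.LieRow.hasSplit_of_lie h
  · exact FixBN.ReeSplit.hasSplit_of_isoRee h1

theorem noBad_of_lie {p : ℕ} (hp : p.Prime) {K : Type*} [Group K] [Finite K] [IsSimpleGroup K]
    (h : IsLieTypeChar p K) : NoBad p p K :=
  noBad_of_hasSplit hp (hasSplit_of_lie hp h)

theorem noThree_of_lie {p : ℕ} (hp : p.Prime) {K : Type*} [Group K] [Finite K] [IsSimpleGroup K]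
    (h : IsLieTypeChar p K) : NoThree K :=
  (noBad_of_lie hp h).noThree hp hp

end Cfsg.Agent.H393
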