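import Mathlib
import Cfsg.Agent.H393.Derange
import Cfsg.Agent.H393.DerangeIdx

/-!
# Transitive groups with a normal subgroup outside which every element has exactly one fixed point

General lemmas and the imprimitive case.
-/

set_option autoImplicit false

namespace Cfsg.Agent.H393.Bcgr

open MulAction

/-- If `G` and `N` are transitive and the elements outside `N` fix at most one point, they fix exactly
one point. -/
theorem fix_eq_one {G X : Type*} [Group G] [Finite G] [MulAction G X] [Finite X] [Nonempty X]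
    (N : Subgroup G) (hN : IsPretransitive N X) (h : ∀ g : G, g ∉ N → Nat.card (fixedBy X g) ≤ 1) :
    ∀ g : G, g ∉ N → Nat.card (fixedBy X g) = 1 := by
  classical
  have : Fintype G := Fintype.ofFinite G
  have hG : IsPretransitive G X := by
    refine ⟨fun x y => ?_⟩
    obtain ⟨n, hn⟩ := hN.exists_smul_eq x y
    exact ⟨n, hn⟩
  have h1 := burnside_natCard G X
  rw [card_orbits_eq_one G X hG, one_mul] at h1
  have h2 := burnside_subgroup G X N
  rw [card_orbits_eq_one N X hN, one_mul] at h2
  have h3 := Finset.sum_filter_add_sum_filter_not (Finset.univ : Finset G) (fun g => g ∈ N)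
    (fun g => Nat.card (fixedBy X g))
  have h4 := Finset.card_filter_add_card_filter_not (s := (Finset.univ : Finset G)) (fun g => g ∈ N)
  have h5 : (Finset.univ.filter (fun g : G => g ∈ N)).card = Nat.card N := by
    rw [Nat.card_eq_fintype_card]
    exact (Fintype.card_subtype _).symm
  have h6 : (Finset.univ : Finset G).card = Nat.card G := by
    rw [Nat.card_eq_fintype_card]; rfl
  have hle : ∀ g ∈ Finset.univ.filter (fun g : G => ¬ g ∈ N), Nat.card (fixedBy X g) ≤ 1 := by
    intro g hg
    exact h g (Finset.mem_filter.1 hg).2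
  have h8 : ∑ g ∈ Finset.univ.filter (fun g : G => ¬ g ∈ N), Nat.card (fixedBy X g) =
      ∑ g ∈ Finset.univ.filter (fun g : G => ¬ g ∈ N), 1 := by
    rw [← Finset.card_eq_sum_ones]
    omega
  have h9 := (Finset.sum_eq_sum_iff_of_le hle).1 h8
  intro g hg
  exact h9 g (by simp [hg])

/-- the elements outside `N` having their fixed point in the orbit of `x` -/
def outside {G X : Type*} [Group G] [MulAction G X] (N : Subgroup G) (x : X) : Set G :=
  {g | g ∉ N ∧ ∃ y ∈ orbit G x, g • y = y}

open Classical in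
/-- Counting: `|outside| = |G| - t |N|` where `t` is the number of `N`-orbits in the orbit. -/
theorem card_outside {G X : Type*} [Group G] [Finite G] [MulAction G X] [Finite X]
    (N : Subgroup G) (h : ∀ g : G, g ∉ N → Nat.card (fixedBy X g) = 1) (x : X) :
    (outside N x).ncard + Nat.card (orbitRel.Quotient N (orbit G x)) * Nat.card N = Nat.card G := by
  have : Fintype G := Fintype.ofFinite G
  have hne : Nonempty (orbit G x) := ⟨⟨x, mem_orbit_self x⟩⟩
  have h1 := burnside_natCard G (orbit G x)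
  rw [card_orbits_eq_one G (orbit G x) inferInstance, one_mul] at h1
  have h2 := burnside_subgroup G (orbit G x) N
  have h3 := Finset.sum_filter_add_sum_filter_not (Finset.univ : Finset G) (fun g => g ∈ N)
    (fun g => Nat.card (fixedBy (orbit G x) g))
  have h4 : ∑ g ∈ Finset.univ.filter (fun g : G => ¬ g ∈ N), Nat.card (fixedBy (orbit G x) g) =
      ∑ g ∈ Finset.univ.filter (fun g : G => ¬ g ∈ N), if g ∈ outside N x then 1 else 0 := by
    refine Finset.sum_congr rfl fun g hg => ?_
    have hgN := (Finset.mem_filter.1 hg).2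
    have h5 := h g hgN
    rw [Nat.card_eq_one_iff_unique] at h5
    obtain ⟨h5, ⟨z⟩⟩ := h5
    split_ifs with hgo
    · obtain ⟨-, y, hy, hgy⟩ := hgo
      rw [Nat.card_eq_one_iff_unique]
      refine ⟨⟨fun a b => ?_⟩, ⟨⟨⟨y, hy⟩, Subtype.ext hgy⟩⟩⟩
      have ha : g • (a.1 : X) = a.1 := congrArg Subtype.val a.2
      have hb : g • (b.1 : X) = b.1 := congrArg Subtype.val b.2
      have h6 : (⟨(a.1 : X), ha⟩ : fixedBy X g) = ⟨(b.1 : X), hb⟩ := Subsingleton.elim _ _
      exact Subtype.ext (Subtype.ext (congrArg (fun q : fixedBy X g => (q : X)) h6))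
    · rw [Finite.card_eq_zero_iff]
      refine ⟨fun a => hgo ⟨hgN, a.1, a.1.2, congrArg Subtype.val a.2⟩⟩
  have h5 : ∑ g ∈ Finset.univ.filter (fun g : G => ¬ g ∈ N), (if g ∈ outside N x then 1 else 0) =
      (outside N x).ncard := by
    rw [Finset.sum_boole, Nat.cast_id, Set.ncard_eq_toFinset_card']
    congr 1
    ext g
    simp only [Finset.mem_filter, Finset.mem_univ, true_and, Set.mem_toFinset]
    exact ⟨fun h => h.2, fun h => ⟨h.1, h⟩⟩
  rw [h4, h5] at h3
  omega

open Classical in
/-- If an element outside `N` has its fixed point in the orbit of `x`, then at least half of the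
elements of `G` have. -/
theorem two_mul_card_outside {G X : Type*} [Group G] [Finite G] [MulAction G X] [Finite X]
    (N : Subgroup G) [hN : N.Normal] (h : ∀ g : G, g ∉ N → Nat.card (fixedBy X g) = 1) (x : X)
    (hx : (outside N x).Nonempty) : Nat.card G ≤ 2 * (outside N x).ncard := by
  have : Fintype G := Fintype.ofFinite G
  have : Fintype (orbit G x) := Fintype.ofFinite _
  obtain ⟨h₀, hh₀, y₀, hy₀, hfix⟩ := hx
  -- for each point of the orbit an element outside `N` fixing it
  have hex : ∀ y : orbit G x, ∃ k : G, k ∉ N ∧ k • y = y := by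
    intro y
    obtain ⟨a, ha⟩ := exists_smul_eq G (⟨y₀, hy₀⟩ : orbit G x) y
    refine ⟨a * h₀ * a⁻¹, fun hc => hh₀ ?_, ?_⟩
    · have := hN.conj_mem _ hc a⁻¹
      have e : a⁻¹ * (a * h₀ * a⁻¹) * a⁻¹⁻¹ = h₀ := by group
      rwa [e] at this
    · rw [mul_smul, mul_smul, ← ha, inv_smul_smul]
      congr 1
      exact Subtype.ext hfix
  choose k hk hky using hex
  have hne : Nonempty (orbit G x) := ⟨⟨x, mem_orbit_self x⟩⟩
  have h1 := burnside_natCard G (orbit G x)
  rw [card_orbits_eq_one G (orbit G x) inferInstance, one_mul] at h1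
  have h2 := burnside_subgroup G (orbit G x) N
  have h0 := card_outside N h x
  -- double counting
  have key : ∀ S : Finset G, ∑ g ∈ S, Nat.card (fixedBy (orbit G x) g) =
      ∑ y : orbit G x, (S.filter (fun g => g • y = y)).card := by
    intro S
    have e1 : ∀ g : G, Nat.card (fixedBy (orbit G x) g) =
        ∑ y : orbit G x, if g • y = y then 1 else 0 := by
      intro g
      rw [Finset.sum_boole, Nat.cast_id, Nat.card_eq_fintype_card, ← Fintype.card_subtype]
      exact Fintype.card_congr (Equiv.refl _)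
    rw [Finset.sum_congr rfl (fun g _ => e1 g), Finset.sum_comm]
    refine Finset.sum_congr rfl fun y _ => ?_
    rw [Finset.sum_boole, Nat.cast_id]
  have h3 := Finset.sum_filter_add_sum_filter_not (Finset.univ : Finset G) (fun g => g ∈ N)
    (fun g => Nat.card (fixedBy (orbit G x) g))
  have h4 : ∑ g ∈ Finset.univ.filter (fun g : G => g ∈ N), Nat.card (fixedBy (orbit G x) g) ≤
      ∑ g ∈ Finset.univ.filter (fun g : G => ¬ g ∈ N), Nat.card (fixedBy (orbit G x) g) := by
    rw [key, key]
    refine Finset.sum_le_sum fun y _ => ?_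
    refine Finset.card_le_card_of_injOn (fun g => k y * g) ?_ ?_
    · intro g hg
      simp only [Finset.coe_filter, Finset.mem_filter, Finset.mem_univ, true_and,
        Set.mem_setOf_eq] at hg ⊢
      refine ⟨fun hc => hk y ?_, ?_⟩
      · have := N.mul_mem hc (N.inv_mem hg.1)
        rwa [mul_inv_cancel_right] at this
      · rw [mul_smul, hg.2, hky]
    · intro a _ b _ hab
      exact mul_left_cancel hab
  omega

/-- There is an `N`-orbit which is invariant under `G`. -/
theorem exists_inv_orbit {G X : Type*} [Group G] [Finite G] [MulAction G X] [Finite X] [Nonempty X]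
    (N : Subgroup G) [hN : N.Normal] (h : ∀ g : G, g ∉ N → Nat.card (fixedBy X g) = 1) :
    ∃ x : X, ∀ g : G, ∃ d ∈ N, g • x = d • x := by
  classical
  by_cases hNt : N = ⊤
  · obtain ⟨x⟩ := ‹Nonempty X›
    exact ⟨x, fun g => ⟨g, by rw [hNt]; trivial, rfl⟩⟩
  obtain ⟨g₀, hg₀⟩ : ∃ g₀ : G, g₀ ∉ N := by
    by_contra hc
    push Not at hc
    exact hNt ((Subgroup.eq_top_iff' N).2 hc)
  have hfix : ∀ g : G, g ∉ N → ∃ y : X, g • y = y := by
    intro g hg
    have h5 := h g hg
    rw [Nat.card_eq_one_iff_unique] at h5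
    obtain ⟨-, ⟨z⟩⟩ := h5
    exact ⟨z.1, z.2⟩
  have huniq : ∀ g : G, g ∉ N → ∀ y z : X, g • y = y → g • z = z → y = z := by
    intro g hg y z hy hz
    have h5 := h g hg
    rw [Nat.card_eq_one_iff_unique] at h5
    obtain ⟨h5, -⟩ := h5
    have h6 : (⟨y, hy⟩ : fixedBy X g) = ⟨z, hz⟩ := Subsingleton.elim _ _
    exact congrArg Subtype.val h6
  obtain ⟨x, hx⟩ := hfix g₀ hg₀
  have hx0 : (outside N x).Nonempty := ⟨g₀, hg₀, x, mem_orbit_self x, hx⟩
  have hc0 := two_mul_card_outside N h x hx0
  have hNc : ((N : Set G)ᶜ).ncard + Nat.card N = Nat.card G := by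
    have := Set.ncard_add_ncard_compl (N : Set G)
    rw [add_comm, ← this]
    congr 1
  have hNpos : 0 < Nat.card N := Nat.card_pos
  -- all elements outside `N` have their fixed point in this orbit
  have hall : ∀ g : G, g ∉ N → g ∈ outside N x := by
    intro g hg
    by_contra hgo
    obtain ⟨y, hy⟩ := hfix g hg
    have hyx : y ∉ orbit G x := fun hc => hgo ⟨hg, y, hc, hy⟩
    have hc1 := two_mul_card_outside N h y ⟨g, hg, y, mem_orbit_self y, hy⟩
    have hdis : Disjoint (outside N x) (outside N y) := by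
      rw [Set.disjoint_left]
      rintro a ⟨ha, z, hz, haz⟩ ⟨-, w, hw, haw⟩
      have hzw := huniq a ha z w haz haw
      apply hyx
      rw [hzw] at hz
      have h1 : orbit G w = orbit G y := orbit_eq_iff.2 hw
      have h2 : orbit G w = orbit G x := orbit_eq_iff.2 hz
      rw [← h2, h1]
      exact mem_orbit_self y
    have hsub : outside N x ∪ outside N y ⊆ (N : Set G)ᶜ := by
      rintro a (ha | ha)
      · exact ha.1
      · exact ha.1
    have h1 := Set.ncard_le_ncard hsub (Set.toFinite _)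
    rw [Set.ncard_union_eq hdis (Set.toFinite _) (Set.toFinite _)] at h1
    omega
  have heq : outside N x = (N : Set G)ᶜ := by
    ext g
    exact ⟨fun hg => hg.1, fun hg => hall g hg⟩
  have h2 := card_outside N h x
  rw [heq] at h2
  have h3 : Nat.card (orbitRel.Quotient N (orbit G x)) * Nat.card N = 1 * Nat.card N := by omega
  have h4 := Nat.eq_of_mul_eq_mul_right hNpos h3
  have h5 := pretransitive_of_card_orbits_eq_one _ _ h4
  refine ⟨x, fun g => ?_⟩
  obtain ⟨d, hd⟩ := h5.exists_smul_eq ⟨x, mem_orbit_self x⟩ ⟨g • x, mem_orbit x g⟩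
  exact ⟨d, d.2, (congrArg Subtype.val hd).symm⟩

/-- For `G` transitive, `N` is transitive. -/
theorem isPretransitive_normal {G X : Type*} [Group G] [Finite G] [MulAction G X] [Finite X]
    [Nonempty X] (hG : IsPretransitive G X)
    (N : Subgroup G) [hN : N.Normal] (h : ∀ g : G, g ∉ N → Nat.card (fixedBy X g) = 1) :
    IsPretransitive N X := by
  obtain ⟨x, hx⟩ := exists_inv_orbit N h
  have key : ∀ y : X, ∃ d : N, d • x = y := by
    intro y
    obtain ⟨g, rfl⟩ := hG.exists_smul_eq x y
    obtain ⟨d, hd, hdx⟩ := hx g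
    exact ⟨⟨d, hd⟩, hdx.symm⟩
  refine ⟨fun y z => ?_⟩
  obtain ⟨d, hd⟩ := key y
  obtain ⟨d', hd'⟩ := key z
  refine ⟨d' * d⁻¹, ?_⟩
  rw [mul_smul, ← hd, inv_smul_smul, hd']

theorem two_fixed {G X : Type*} [Group G] [MulAction G X]
    {N : Subgroup G} (h : ∀ g : G, g ∉ N → Nat.card (fixedBy X g) = 1) {g : G} {y z : X}
    (hyz : y ≠ z) (hy : g • y = y) (hz : g • z = z) : g ∈ N := by
  by_contra hg
  have h5 := h g hg
  rw [Nat.card_eq_one_iff_unique] at h5
  obtain ⟨h5, -⟩ := h5
  have h6 : (⟨y, hy⟩ : fixedBy X g) = ⟨z, hz⟩ := Subsingleton.elim _ _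
  exact hyz (congrArg Subtype.val h6)

/-- Let `Y ≤ G_x` with `Y N = G`, and let `T` be a `Y`-invariant set containing `x`.  Then the index
of `N` divides `|T| - 1`. -/
theorem index_dvd_of_invariant {G X : Type*} [Group G] [Finite G] [MulAction G X] [Finite X]
    (N : Subgroup G) [hN : N.Normal] (h : ∀ g : G, g ∉ N → Nat.card (fixedBy X g) = 1) (x : X)
    (Y : Subgroup G) (hYx : ∀ g ∈ Y, g • x = x) (hYN : ∀ g : G, ∃ d ∈ N, d * g ∈ Y)
    (T : Set X) (hxT : x ∈ T) (hT : ∀ g ∈ Y, ∀ y ∈ T, g • y ∈ T) : N.index ∣ T.ncard - 1 := by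
  classical
  let Z : SubMulAction Y X :=
    { carrier := T \ {x}
      smul_mem' := by
        rintro g y ⟨hy, hyx⟩
        refine ⟨hT g g.2 y hy, fun hc => hyx ?_⟩
        have h1 : (g : G) • y = x := hc
        have h2 : (g : G) • x = x := hYx g g.2
        rw [← h2] at h1
        exact (MulAction.injective (g : G)) h1 }
  have hidx : N.index = (N.subgroupOf Y).index := by
    have h1 : N ⊔ Y = ⊤ := by
      rw [Subgroup.eq_top_iff']
      intro g
      obtain ⟨d, hd, hdg⟩ := hYN g
      have e : g = d⁻¹ * (d * g) := by group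
      rw [e]
      exact mul_mem (Subgroup.mem_sup_left (inv_mem hd)) (Subgroup.mem_sup_right hdg)
    have h2 := Subgroup.relIndex_sup_left Y N
    rw [h1, Subgroup.relIndex_top_right] at h2
    exact h2
  have hcard : Nat.card Z = T.ncard - 1 := by
    have h1 : Nat.card Z = (T \ {x}).ncard := Nat.card_coe_set_eq _
    rw [h1, Set.ncard_sdiff_singleton_of_mem hxT]
  rw [hidx, ← hcard]
  refine index_dvd_card_of_stabilizer_le (N.subgroupOf Y) ?_
  intro z g hg
  rw [Subgroup.mem_subgroupOf]
  have h1 : (g : G) • (z : X) = z := congrArg Subtype.val hg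
  exact two_fixed h (fun hc => z.2.2 hc) h1 (hYx g g.2)

open scoped Pointwise in
/-- **The imprimitive case.** -/
theorem imprimitive_bound {G X : Type*} [Group G] [Finite G] [MulAction G X] [Finite X]
    (hG : IsPretransitive G X) (himp : ¬ IsPreprimitive G X)
    (N : Subgroup G) [hN : N.Normal] (h : ∀ g : G, g ∉ N → Nat.card (fixedBy X g) = 1) :
    (N.index + 1) ^ 2 ≤ Nat.card X := by
  classical
  obtain ⟨B, hB, hnt⟩ : ∃ B : Set X, IsBlock G B ∧ ¬ IsTrivialBlock B := by
    by_contra hc
    push Not at hc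
    exact himp ⟨fun {B} hB => hc B hB⟩
  rw [IsTrivialBlock, not_or, Set.not_subsingleton_iff] at hnt
  obtain ⟨⟨x, hx, y, hy, hxy⟩, hBu⟩ := hnt
  have hne : Nonempty X := ⟨x⟩
  have hNt := isPretransitive_normal hG N h
  have hYN : ∀ g : G, ∃ d ∈ N, d * g ∈ stabilizer G x := by
    intro g
    obtain ⟨d, hd⟩ := hNt.exists_smul_eq (g • x) x
    refine ⟨d, d.2, ?_⟩
    rw [mem_stabilizer_iff, mul_smul]
    exact hd
  have h1 : N.index ∣ B.ncard - 1 := by
    refine index_dvd_of_invariant N h x (stabilizer G x) (fun g hg => hg) hYN B hx ?_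
    intro g hg z hz
    have h2 : g • B = B := hB.smul_eq_of_mem hx (by rw [mem_stabilizer_iff.1 hg]; exact hx)
    rw [← h2]
    exact Set.smul_mem_smul_set hz
  have h2 : N.index ∣ (Set.univ : Set X).ncard - 1 :=
    index_dvd_of_invariant N h x (stabilizer G x) (fun g hg => hg) hYN Set.univ (Set.mem_univ _)
      (fun _ _ _ _ => Set.mem_univ _)
  rw [Set.ncard_univ] at h2
  have h3 := hB.ncard_block_mul_ncard_orbit_eq ⟨x, hx⟩
  have hk : 2 ≤ B.ncard := by
    have : 1 < B.ncard := (Set.one_lt_ncard (Set.toFinite _)).2 ⟨x, hx, y, hy, hxy⟩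
    omega
  have hm : 2 ≤ (orbit G B).ncard := by
    by_contra hc
    push Not at hc
    have h4 : B.ncard < Nat.card X := by
      rw [← Set.ncard_univ]
      exact Set.ncard_lt_ncard (Set.ssubset_univ_iff.2 hBu) (Set.toFinite _)
    have : (orbit G B).ncard = 0 ∨ (orbit G B).ncard = 1 := by omega
    rcases this with h5 | h5
    · rw [h5, mul_zero] at h3
      have : 0 < Nat.card X := Nat.card_pos
      omega
    · rw [h5, mul_one] at h3
      omega
  obtain ⟨k, hk'⟩ : ∃ k, B.ncard = k + 1 := ⟨B.ncard - 1, by omega⟩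
  obtain ⟨m, hm'⟩ : ∃ m, (orbit G B).ncard = m + 1 := ⟨(orbit G B).ncard - 1, by omega⟩
  rw [hk'] at h1 h3 hk
  rw [hm'] at h3 hm
  rw [← h3] at h2 ⊢
  rw [Nat.add_sub_cancel] at h1
  have h4 : (k + 1) * (m + 1) - 1 = k * (m + 1) + m := by
    have : (k + 1) * (m + 1) = k * (m + 1) + m + 1 := by ring
    omega
  rw [h4] at h2
  have h5 : N.index ∣ m := (Nat.dvd_add_right (h1.mul_right (m + 1))).1 h2
  have h6 := Nat.le_of_dvd (by omega) h1
  have h7 := Nat.le_of_dvd (by omega) h5
  nlinarith

end Cfsg.Agent.H393.Bcgr
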