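import Mathlib
import Cfsg.Agent.H393.BcgrA

/-!
# Transitive groups with a normal subgroup outside which every element has exactly one fixed point

The index is at most `n_p - 1` for every prime divisor `p` of the degree `n`.
-/

set_option autoImplicit false
set_option linter.unusedSectionVars false
set_option linter.unusedVariables false

namespace Cfsg.Agent.H393.Bcgr

open MulAction

theorem pretransitive_of_base {G X : Type*} [Group G] [MulAction G X] (x : X)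
    (h : ∀ y : X, ∃ g : G, g • x = y) : IsPretransitive G X := by
  refine ⟨fun y z => ?_⟩
  obtain ⟨g, rfl⟩ := h y
  obtain ⟨k, rfl⟩ := h z
  exact ⟨k * g⁻¹, by rw [mul_smul, inv_smul_smul]⟩

/-! ### Sylow subgroups of subgroups -/

section Syl

variable {G : Type*} [Group G] [Finite G] {p : ℕ} [hp : Fact p.Prime]

theorem exists_syl (p : ℕ) [hp : Fact p.Prime] (H : Subgroup G) :
    ∃ P : Subgroup G, P ≤ H ∧ IsPGroup p P ∧ ¬ p ∣ P.relIndex H := by
  obtain ⟨Q⟩ : Nonempty (Sylow p H) := inferInstance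
  refine ⟨(Q : Subgroup H).map H.subtype, Subgroup.map_subtype_le _, Q.2.map _, ?_⟩
  rw [Subgroup.relIndex, Subgroup.subgroupOf,
    Subgroup.comap_map_eq_self_of_injective H.subtype_injective]
  exact Q.not_dvd_index

theorem syl_conj {H P Q : Subgroup G} (hPH : P ≤ H)
    (hPi : ¬ p ∣ P.relIndex H) (hQH : Q ≤ H) (hQ : IsPGroup p Q) :
    ∃ h ∈ H, ∀ q ∈ Q, h⁻¹ * q * h ∈ P := by
  have hcard : ¬ p ∣ Nat.card (H ⧸ P.subgroupOf H) := hPi
  have hQ' : IsPGroup p (Q.subgroupOf H) := hQ.comap_of_injective _ H.subtype_injective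
  obtain ⟨y, hy⟩ := hQ'.nonempty_fixed_point_of_prime_not_dvd_card (H ⧸ P.subgroupOf H) hcard
  obtain ⟨h, rfl⟩ := QuotientGroup.mk_surjective y
  refine ⟨h, h.2, fun q hq => ?_⟩
  have h1 := hy ⟨⟨q, hQH hq⟩, Subgroup.mem_subgroupOf.2 hq⟩
  have h2 : (((⟨q, hQH hq⟩ : H) * h : H) : H ⧸ P.subgroupOf H) = (h : H ⧸ P.subgroupOf H) := h1
  rw [eq_comm, QuotientGroup.eq, Subgroup.mem_subgroupOf] at h2
  have h3 : h⁻¹ * (⟨q, hQH hq⟩ * h) = h⁻¹ * ⟨q, hQH hq⟩ * h := by group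
  rw [h3] at h2
  exact h2

theorem mem_normalizer_of {P : Subgroup G} {x : G} (h : ∀ n ∈ P, x * n * x⁻¹ ∈ P) :
    x ∈ Subgroup.normalizer (P : Set G) :=
  Subgroup.mem_normalizer_fintype (S := (P : Set G)) h

/-- A `p`-subgroup containing a Sylow subgroup is equal to it. -/
theorem eq_of_syl {H P Q : Subgroup G} (hPi : ¬ p ∣ P.relIndex H) (hPQ : P ≤ Q) (hQH : Q ≤ H)
    (hQ : IsPGroup p Q) : P = Q := by
  have h1 : P.relIndex Q ∣ Nat.card Q := Subgroup.relIndex_dvd_card _ _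
  obtain ⟨k, hk⟩ := (IsPGroup.iff_card).1 hQ
  rw [hk] at h1
  obtain ⟨j, -, hj⟩ := (Nat.dvd_prime_pow hp.out).1 h1
  have h2 : P.relIndex Q * Q.relIndex H = P.relIndex H := Subgroup.relIndex_mul_relIndex P Q H hPQ hQH
  rcases Nat.eq_zero_or_pos j with h0 | h0
  · rw [h0, pow_zero] at hj
    exact le_antisymm hPQ (Subgroup.relIndex_eq_one.1 hj)
  · exfalso
    apply hPi
    rw [← h2, hj]
    exact (dvd_pow_self p h0.ne').mul_right _

theorem card_mul_relIndex {P Q : Subgroup G} (h : P ≤ Q) : Nat.card P * P.relIndex Q = Nat.card Q := by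
  have h1 := (P.subgroupOf Q).card_mul_index
  rw [Nat.card_congr (Subgroup.subgroupOfEquivOfLe h).toEquiv] at h1
  exact h1

end Syl

/-- **Step (1)**: `D.index ≤ n_p - 1`. -/
theorem step_one {G Ω : Type*} [Group G] [Finite G] [MulAction G Ω] [Finite Ω] [Nonempty Ω]
    (D : Subgroup G) [hDn : D.Normal] (hDt : IsPretransitive D Ω)
    (hD : ∀ g : G, g ∉ D → Nat.card (fixedBy Ω g) = 1) {p : ℕ} (hp : p.Prime)
    (hpn : p ∣ Nat.card Ω) : ∃ b : ℕ, p ^ b ∣ Nat.card Ω ∧ D.index + 1 ≤ p ^ b := by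
  classical
  have hpf : Fact p.Prime := ⟨hp⟩
  obtain ⟨x⟩ := id ‹Nonempty Ω›
  have hDt' : ∀ y z : Ω, ∃ d ∈ D, d • y = z := by
    intro y z
    obtain ⟨d, hd⟩ := hDt.exists_smul_eq y z
    exact ⟨d, d.2, hd⟩
  -- `P₀`
  obtain ⟨P0, hP0D, hP0p, hP0i⟩ := exists_syl p (D ⊓ stabilizer G x)
  obtain ⟨K, hK⟩ : ∃ K : Subgroup G, K = Subgroup.normalizer (P0 : Set G) := ⟨_, rfl⟩
  have hKmem : ∀ k ∈ K, ∀ u ∈ P0, k * u * k⁻¹ ∈ P0 := by
    intro k hk u hu
    rw [hK] at hk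
    exact (Subgroup.mem_normalizer_iff.1 hk u).1 hu
  have hKmem' : ∀ k ∈ K, ∀ u ∈ P0, k⁻¹ * u * k ∈ P0 := by
    intro k hk u hu
    have := hKmem k⁻¹ (K.inv_mem hk) u hu
    rwa [inv_inv] at this
  have hP0K : P0 ≤ K := by rw [hK]; exact Subgroup.le_normalizer
  -- fixed points
  obtain ⟨F, hF⟩ : ∃ F : Set Ω, F = {y | ∀ u ∈ P0, u • y = y} := ⟨_, rfl⟩
  have hmemF : ∀ y, y ∈ F ↔ ∀ u ∈ P0, u • y = y := by intro y; rw [hF]; rfl
  have hxF : x ∈ F := by
    rw [hmemF]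
    intro u hu
    exact (Subgroup.mem_inf.1 (hP0D hu)).2
  have hKF : ∀ k ∈ K, ∀ y ∈ F, k • y ∈ F := by
    intro k hk y hy
    rw [hmemF] at hy ⊢
    intro u hu
    have h1 := hy _ (hKmem' k hk u hu)
    rw [mul_smul, mul_smul, inv_smul_eq_iff] at h1
    exact h1
  -- transitivity of `N_D(P₀)` on `F`
  have htrF : ∀ z ∈ F, ∃ c ∈ D, c ∈ K ∧ c • x = z := by
    intro z hz
    obtain ⟨a, ha, hax⟩ := hDt' x z
    obtain ⟨h, hh, hhc⟩ := syl_conj (H := D ⊓ stabilizer G x) (P := P0)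
      (Q := P0.map (MulAut.conj a⁻¹).toMonoidHom) hP0D hP0i (by
        rintro _ ⟨u, hu, rfl⟩
        have h1 := Subgroup.mem_inf.1 (hP0D hu)
        refine Subgroup.mem_inf.2 ⟨hDn.conj_mem u h1.1 a⁻¹, ?_⟩
        rw [mem_stabilizer_iff]
        show (a⁻¹ * u * a⁻¹⁻¹) • x = x
        rw [inv_inv, mul_smul, mul_smul, hax, (hmemF z).1 hz u hu, inv_smul_eq_iff, hax])
      (hP0p.map _)
    have hh' := Subgroup.mem_inf.1 hh
    refine ⟨a * h, D.mul_mem ha hh'.1, ?_, ?_⟩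
    · have h2 : (a * h)⁻¹ ∈ K := by
        rw [hK]
        apply mem_normalizer_of
        intro u hu
        have h3 := hhc _ ⟨u, hu, rfl⟩
        have e : h⁻¹ * (MulAut.conj a⁻¹).toMonoidHom u * h = (a * h)⁻¹ * u * (a * h)⁻¹⁻¹ := by
          show h⁻¹ * (a⁻¹ * u * a⁻¹⁻¹) * h = _
          group
        rwa [e] at h3
      have := K.inv_mem h2
      rwa [inv_inv] at this
    · rw [mul_smul, mem_stabilizer_iff.1 hh'.2, hax]
  -- `P₁`
  obtain ⟨P1, hP1N, hP1p, hP1i⟩ := exists_syl p (D ⊓ K)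
  have hP01 : P0 ≤ P1 := by
    obtain ⟨h, hh, hhc⟩ := syl_conj (H := D ⊓ K) (P := P1) (Q := P0) hP1N hP1i
      (le_inf (hP0D.trans inf_le_left) hP0K) hP0p
    intro u hu
    have h1 := hhc _ (hKmem h (Subgroup.mem_inf.1 hh).2 u hu)
    have e : h⁻¹ * (h * u * h⁻¹) * h = u := by group
    rwa [e] at h1
  obtain ⟨M, hM⟩ : ∃ M : Subgroup G, M = K ⊓ Subgroup.normalizer (P1 : Set G) := ⟨_, rfl⟩
  have hMK : M ≤ K := by rw [hM]; exact inf_le_left
  have hMP1 : ∀ g ∈ M, ∀ u ∈ P1, g * u * g⁻¹ ∈ P1 := by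
    intro g hg u hu
    rw [hM] at hg
    exact (Subgroup.mem_normalizer_iff.1 (Subgroup.mem_inf.1 hg).2 u).1 hu
  -- Frattini
  have hFr : ∀ g : G, ∃ d ∈ D, d * g ∈ M := by
    intro g
    obtain ⟨d, hd, hdx⟩ := hDt' (g • x) x
    have ht : (d * g) • x = x := by rw [mul_smul]; exact hdx
    obtain ⟨h, hh, hhc⟩ := syl_conj (H := D ⊓ stabilizer G x) (P := P0)
      (Q := P0.map (MulAut.conj (d * g)).toMonoidHom) hP0D hP0i (by
        rintro _ ⟨u, hu, rfl⟩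
        have h1 := Subgroup.mem_inf.1 (hP0D hu)
        refine Subgroup.mem_inf.2 ⟨hDn.conj_mem u h1.1 _, ?_⟩
        rw [mem_stabilizer_iff]
        show (d * g * u * (d * g)⁻¹) • x = x
        have h2 : (d * g)⁻¹ • x = x := by rw [inv_smul_eq_iff, ht]
        rw [mul_smul, h2, mul_smul, mem_stabilizer_iff.1 h1.2, ht])
      (hP0p.map _)
    have hh' := Subgroup.mem_inf.1 hh
    have ha : h⁻¹ * (d * g) ∈ K := by
      rw [hK]
      apply mem_normalizer_of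
      intro u hu
      have h3 := hhc _ ⟨u, hu, rfl⟩
      have e : h⁻¹ * (MulAut.conj (d * g)).toMonoidHom u * h =
          h⁻¹ * (d * g) * u * (h⁻¹ * (d * g))⁻¹ := by
        show h⁻¹ * (d * g * u * (d * g)⁻¹) * h = _
        group
      rwa [e] at h3
    obtain ⟨t, ht'⟩ : ∃ t, t = h⁻¹ * (d * g) := ⟨_, rfl⟩
    rw [← ht'] at ha
    obtain ⟨h', hh', hhc'⟩ := syl_conj (H := D ⊓ K) (P := P1)
      (Q := P1.map (MulAut.conj t).toMonoidHom) hP1N hP1i (by
        rintro _ ⟨u, hu, rfl⟩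
        have h1 := Subgroup.mem_inf.1 (hP1N hu)
        refine Subgroup.mem_inf.2 ⟨hDn.conj_mem u h1.1 _, ?_⟩
        exact K.mul_mem (K.mul_mem ha h1.2) (K.inv_mem ha))
      (hP1p.map _)
    have hh'' := Subgroup.mem_inf.1 hh'
    refine ⟨h'⁻¹ * (h⁻¹ * d), D.mul_mem (D.inv_mem hh''.1) (D.mul_mem (D.inv_mem
      (Subgroup.mem_inf.1 hh).1) hd), ?_⟩
    have e0 : h'⁻¹ * (h⁻¹ * d) * g = h'⁻¹ * t := by rw [ht']; group
    rw [e0, hM]
    refine Subgroup.mem_inf.2 ⟨K.mul_mem (K.inv_mem hh''.2) ha, ?_⟩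
    apply mem_normalizer_of
    intro u hu
    have h3 := hhc' _ ⟨u, hu, rfl⟩
    have e : h'⁻¹ * (MulAut.conj t).toMonoidHom u * h' = h'⁻¹ * t * u * (h'⁻¹ * t)⁻¹ := by
      show h'⁻¹ * (t * u * t⁻¹) * h' = _
      group
    rwa [e] at h3
  -- the action of `K` on `F`
  let ZK : SubMulAction K Ω :=
    { carrier := F
      smul_mem' := fun k y hy => hKF k k.2 y hy }
  let ZM : SubMulAction M Ω :=
    { carrier := F
      smul_mem' := fun k y hy => hKF k (hMK k.2) y hy }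
  have huniq : ∀ g : G, g ∉ D → ∀ y z : Ω, g • y = y → g • z = z → y = z := by
    intro g hg y z hy hz
    by_contra hyz
    exact hg (two_fixed hD hyz hy hz)
  have hneK : Nonempty ZK := ⟨⟨x, hxF⟩⟩
  have hneM : Nonempty ZM := ⟨⟨x, hxF⟩⟩
  have hfixK : ∀ g ∈ K, g ∉ D → ∃ y ∈ F, g • y = y := by
    intro g hgK hgD
    have h1 : IsPretransitive (D.subgroupOf K) ZK := by
      refine pretransitive_of_base (⟨x, hxF⟩ : ZK) fun z => ?_
      obtain ⟨c, hcD, hcK, hcz⟩ := htrF z.1 z.2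
      exact ⟨⟨⟨c, hcK⟩, Subgroup.mem_subgroupOf.2 hcD⟩, Subtype.ext hcz⟩
    have h2 := fix_eq_one (D.subgroupOf K) h1 (fun k hk => by
      rw [Finite.card_le_one_iff_subsingleton]
      refine ⟨fun y z => ?_⟩
      have hk' : (k : G) ∉ D := fun hc => hk (Subgroup.mem_subgroupOf.2 hc)
      exact Subtype.ext (Subtype.ext (huniq k hk' y.1 z.1 (congrArg Subtype.val y.2)
        (congrArg Subtype.val z.2)))) ⟨g, hgK⟩ (fun hc => hgD (Subgroup.mem_subgroupOf.1 hc))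
    rw [Nat.card_eq_one_iff_unique] at h2
    obtain ⟨-, ⟨y⟩⟩ := h2
    exact ⟨y.1, y.1.2, congrArg Subtype.val y.2⟩
  have hDMn : (D.subgroupOf M).Normal := hDn.comap _
  have hfixM : ∀ g : M, g ∉ D.subgroupOf M → Nat.card (fixedBy ZM g) = 1 := by
    intro g hg
    have hg' : (g : G) ∉ D := fun hc => hg (Subgroup.mem_subgroupOf.2 hc)
    obtain ⟨y, hyF, hy⟩ := hfixK g (hMK g.2) hg'
    rw [Nat.card_eq_one_iff_unique]
    refine ⟨⟨fun a b => ?_⟩, ⟨⟨⟨y, hyF⟩, Subtype.ext hy⟩⟩⟩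
    exact Subtype.ext (Subtype.ext (huniq g hg' a.1 b.1 (congrArg Subtype.val a.2)
      (congrArg Subtype.val b.2)))
  obtain ⟨y, hy⟩ := exists_inv_orbit (D.subgroupOf M) hfixM
  have hyF : (y : Ω) ∈ F := y.2
  -- the group `Y`
  have hYN : ∀ g : G, ∃ d ∈ D, d * g ∈ M ⊓ stabilizer G (y : Ω) := by
    intro g
    obtain ⟨d, hd, hdg⟩ := hFr g
    obtain ⟨d', hd', hdy⟩ := hy ⟨d * g, hdg⟩
    have h1 : (d * g) • (y : Ω) = (d' : G) • (y : Ω) := congrArg Subtype.val hdy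
    refine ⟨(d' : G)⁻¹ * d, D.mul_mem (D.inv_mem (Subgroup.mem_subgroupOf.1 hd')) hd, ?_⟩
    rw [mul_assoc]
    refine Subgroup.mem_inf.2 ⟨M.mul_mem (M.inv_mem d'.2) hdg, ?_⟩
    rw [mem_stabilizer_iff, mul_smul, h1, inv_smul_smul]
  obtain ⟨T, hT⟩ : ∃ T : Set Ω, T = {z | ∃ u ∈ P1, u • (y : Ω) = z} := ⟨_, rfl⟩
  have hyT : (y : Ω) ∈ T := by rw [hT]; exact ⟨1, P1.one_mem, one_smul _ _⟩
  have hTinv : ∀ g ∈ M ⊓ stabilizer G (y : Ω), ∀ z ∈ T, g • z ∈ T := by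
    rintro g hg z hz
    rw [hT] at hz ⊢
    obtain ⟨u, hu, rfl⟩ := hz
    have hg' := Subgroup.mem_inf.1 hg
    refine ⟨g * u * g⁻¹, hMP1 g hg'.1 u hu, ?_⟩
    have h1 : g • (y : Ω) = y := hg'.2
    have h2 : g⁻¹ • (y : Ω) = y := by rw [inv_smul_eq_iff, h1]
    rw [mul_smul, h2, mul_smul]
  have hdvd : D.index ∣ T.ncard - 1 :=
    index_dvd_of_invariant D hD (y : Ω) (M ⊓ stabilizer G (y : Ω))
      (fun g hg => (Subgroup.mem_inf.1 hg).2) hYN T hyT hTinv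
  -- the length of the orbit
  have hTorb : T = orbit P1 (y : Ω) := by
    rw [hT]
    ext z
    constructor
    · rintro ⟨u, hu, huz⟩
      exact ⟨⟨u, hu⟩, huz⟩
    · rintro ⟨u, huz⟩
      exact ⟨u, u.2, huz⟩
  obtain ⟨b, hb⟩ := hP1p.card_orbit (y : Ω)
  have hTb : T.ncard = p ^ b := by
    rw [hTorb, ← hb, Nat.card_coe_set_eq]
  -- the stabiliser of `y` in `D`
  have hcardst : Nat.card (D ⊓ stabilizer G (y : Ω) : Subgroup G) =
      Nat.card (D ⊓ stabilizer G x : Subgroup G) := by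
    have key : ∀ z : Ω, Nat.card (D ⊓ stabilizer G z : Subgroup G) * Nat.card Ω = Nat.card D := by
      intro z
      have h1 := (stabilizer D z).card_mul_index
      rw [index_stabilizer_of_transitive] at h1
      rw [← h1]
      congr 1
      refine Nat.card_congr
        { toFun := fun g => ⟨⟨g.1, (Subgroup.mem_inf.1 g.2).1⟩, (Subgroup.mem_inf.1 g.2).2⟩
          invFun := fun g => ⟨g.1.1, Subgroup.mem_inf.2 ⟨g.1.2, g.2⟩⟩
          left_inv := fun g => rfl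
          right_inv := fun g => rfl }
    have h1 := key y
    rw [← key x] at h1
    exact Nat.eq_of_mul_eq_mul_right Nat.card_pos h1
  have hP0Dy : P0 ≤ D ⊓ stabilizer G (y : Ω) := by
    intro u hu
    exact Subgroup.mem_inf.2 ⟨(Subgroup.mem_inf.1 (hP0D hu)).1, (hmemF _).1 hyF u hu⟩
  have hP0i' : ¬ p ∣ P0.relIndex (D ⊓ stabilizer G (y : Ω)) := by
    have h1 := card_mul_relIndex hP0Dy
    have h2 := card_mul_relIndex hP0D
    rw [hcardst, ← h2] at h1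
    rw [Nat.eq_of_mul_eq_mul_left Nat.card_pos h1]
    exact hP0i
  have hst : P0 = P1 ⊓ stabilizer G (y : Ω) := by
    refine eq_of_syl hP0i' ?_ ?_ (hP1p.to_le inf_le_left)
    · exact le_inf hP01 (hP0Dy.trans inf_le_right)
    · exact le_inf (inf_le_left.trans (hP1N.trans inf_le_left)) inf_le_right
  have hcardP1 : p ^ b * Nat.card P0 = Nat.card P1 := by
    have h1 := (stabilizer P1 (y : Ω)).card_mul_index
    rw [index_stabilizer, ← Nat.card_coe_set_eq, hb, mul_comm] at h1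
    rw [← h1]
    congr 1
    conv_lhs => rw [hst]
    refine Nat.card_congr
      { toFun := fun g => ⟨⟨g.1, (Subgroup.mem_inf.1 g.2).1⟩, (Subgroup.mem_inf.1 g.2).2⟩
        invFun := fun g => ⟨g.1.1, Subgroup.mem_inf.2 ⟨g.1.2, g.2⟩⟩
        left_inv := fun g => rfl
        right_inv := fun g => rfl }
  have hcardD : Nat.card P0 * P0.relIndex (D ⊓ stabilizer G x) * Nat.card Ω = Nat.card D := by
    rw [card_mul_relIndex hP0D]
    have h1 := (stabilizer D x).card_mul_index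
    rw [index_stabilizer_of_transitive] at h1
    rw [← h1]
    congr 1
    refine Nat.card_congr
      { toFun := fun g => ⟨⟨g.1, (Subgroup.mem_inf.1 g.2).1⟩, (Subgroup.mem_inf.1 g.2).2⟩
        invFun := fun g => ⟨g.1.1, Subgroup.mem_inf.2 ⟨g.1.2, g.2⟩⟩
        left_inv := fun g => rfl
        right_inv := fun g => rfl }
  have hbn : p ^ b ∣ Nat.card Ω := by
    have h1 : Nat.card P1 ∣ Nat.card D := Subgroup.card_dvd_of_le (hP1N.trans inf_le_left)
    rw [← hcardP1, ← hcardD, mul_comm, mul_assoc] at h1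
    have h2 := Nat.dvd_of_mul_dvd_mul_left Nat.card_pos h1
    exact Nat.Coprime.dvd_of_dvd_mul_left
      (Nat.Coprime.pow_left b ((Nat.Prime.coprime_iff_not_dvd hp).2 hP0i)) h2
  refine ⟨b, hbn, ?_⟩
  -- `b ≥ 1`
  have hb0 : b ≠ 0 := by
    rintro rfl
    rw [pow_zero, one_mul] at hcardP1
    have h1 : P0 = P1 := Subgroup.eq_of_le_of_card_ge hP01 (by rw [hcardP1])
    rw [← h1] at hP1i
    -- `p` divides `|F|`
    have h2 : Nat.card ZK = (stabilizer (D.subgroupOf K) (⟨x, hxF⟩ : ZK)).index := by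
      have h3 : IsPretransitive (D.subgroupOf K) ZK := by
        refine pretransitive_of_base (⟨x, hxF⟩ : ZK) fun z => ?_
        obtain ⟨c, hcD, hcK, hcz⟩ := htrF z.1 z.2
        exact ⟨⟨⟨c, hcK⟩, Subgroup.mem_subgroupOf.2 hcD⟩, Subtype.ext hcz⟩
      rw [index_stabilizer_of_transitive]
    have h4 := hP0p.card_modEq_card_fixedPoints Ω
    have h5 : Nat.card (fixedPoints P0 Ω) = Nat.card ZK := by
      refine Nat.card_congr (Equiv.subtypeEquivRight fun z => ?_)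
      show z ∈ fixedPoints P0 Ω ↔ z ∈ F
      rw [hmemF]
      exact ⟨fun h u hu => h ⟨u, hu⟩, fun h u => h u u.2⟩
    have h6 : p ∣ Nat.card ZK := by
      rw [← h5]
      exact (Nat.ModEq.dvd_iff h4 dvd_rfl).1 hpn
    apply hP1i
    refine h6.trans ?_
    rw [h2, Subgroup.relIndex]
    -- compare indices
    have h7 : Nat.card (D.subgroupOf K) = Nat.card (D ⊓ K : Subgroup G) := by
      refine Nat.card_congr
        { toFun := fun g => ⟨g.1.1, Subgroup.mem_inf.2 ⟨g.2, g.1.2⟩⟩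
          invFun := fun g => ⟨⟨g.1, (Subgroup.mem_inf.1 g.2).2⟩, (Subgroup.mem_inf.1 g.2).1⟩
          left_inv := fun g => rfl
          right_inv := fun g => rfl }
    have h8 : Nat.card P0 ∣ Nat.card (stabilizer (D.subgroupOf K) (⟨x, hxF⟩ : ZK)) := by
      refine Subgroup.card_dvd_of_injective
        (⟨⟨fun u => ⟨⟨⟨u.1, hP0K u.2⟩, (Subgroup.mem_inf.1 (hP0D u.2)).1⟩,
          Subtype.ext ((hmemF x).1 hxF u.1 u.2)⟩, rfl⟩, fun _ _ => rfl⟩ :
          P0 →* stabilizer (D.subgroupOf K) (⟨x, hxF⟩ : ZK)) ?_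
      intro u v huv
      have h9 := congrArg (fun w : stabilizer (D.subgroupOf K) (⟨x, hxF⟩ : ZK) => ((w.1.1 : K) : G)) huv
      exact Subtype.ext h9
    have h10 := (stabilizer (D.subgroupOf K) (⟨x, hxF⟩ : ZK)).card_mul_index
    have h11 := card_mul_relIndex (h1 ▸ hP1N : P0 ≤ D ⊓ K)
    rw [Subgroup.relIndex] at h11
    rw [h7, ← h11] at h10
    obtain ⟨c, hc⟩ := h8
    rw [hc, mul_assoc] at h10
    have h12 := Nat.eq_of_mul_eq_mul_left Nat.card_pos h10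
    exact Dvd.intro_left _ h12
  rw [hTb] at hdvd
  have h1 : 2 ≤ p ^ b := by
    calc 2 ≤ p := hp.two_le
      _ = p ^ 1 := (pow_one p).symm
      _ ≤ p ^ b := Nat.pow_le_pow_right hp.pos (by omega)
  have := Nat.le_of_dvd (by omega) hdvd
  omega

end Cfsg.Agent.H393.Bcgr
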