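import Mathlib
import Cfsg.Agent.Characters.CCValues
import Cfsg.Agent.S0190
import Cfsg.Agent.S0157

/-!
# Transitive groups with a regular self-centralising abelian subgroup

Let `D` be transitive, not doubly transitive on `Ω`, with a regular abelian subgroup `P` such that
`C_D(z) = P` for all `1 ≠ z ∈ P`; put `m = |N_D(P) : P|`.  If `m ≥ 2` and `(m - 1)^2 < |P|`, then no
non-identity element of `D` fixes two points.
-/

set_option autoImplicit false
set_option linter.unusedSectionVars false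

open scoped ComplexConjugate
open Cfsg

namespace Cfsg.Agent.H393.CCStep

open Characters Characters.CCBasic Characters.CCOrbit Characters.CCInduce
  Characters.CCExceptional Characters.CCValues CharactersDeep.NormalInd

universe u

variable {D : Type u} [Group D] [Fintype D] {A : Subgroup D}

/-- Frobenius reciprocity for differences of characters of `A`. -/
theorem inner_ind_sub [Fintype A] (χ : IrrCharacter D) (l m : IrrCharacter A) :
    classInner (indFun A ((l : A → ℂ) - (m : A → ℂ))) (χ : D → ℂ) =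
      (mult χ l : ℂ) - (mult χ m : ℂ) := by
  rw [classInner_indFun A _ _ (Core.isIrr_isClassFunction χ.2), Core.classInner_sub_left,
    ← Core.classInner_conj_symm, ← Core.classInner_conj_symm (fun a : A => (χ : D → ℂ) a), mult_spec,
    mult_spec, map_intCast, map_intCast]

theorem not_rel_of_mult [Fintype A] {χ : IrrCharacter D} {l m : IrrCharacter A}
    (h : mult χ l ≠ mult χ m) : ¬ Rel A (m : A → ℂ) (l : A → ℂ) := by
  intro hr
  apply h
  have h1 := inner_ind_sub χ l m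
  rw [indFun_sub, indFun_eq_of_rel hr, sub_self, Core.classInner_zero_left] at h1
  have h2 : (mult χ l : ℂ) = (mult χ m : ℂ) := by linear_combination -h1
  exact_mod_cast h2

/-- The induced difference is a difference of irreducible characters. -/
theorem ind_eq [Fintype A] (hA : IsCC A) {χ₁ χ₂ : IrrCharacter D} (hne : χ₁ ≠ χ₂) {l m : NP A}
    (h1l : mult χ₁ l.1 = 1) (h1m : mult χ₁ m.1 = 0) (h2l : mult χ₂ l.1 = 0)
    (h2m : mult χ₂ m.1 = 1) :
    indFun A ((l.1 : A → ℂ) - (m.1 : A → ℂ)) = (χ₁ : D → ℂ) - (χ₂ : D → ℂ) := by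
  have hrel : ¬ Rel A (m.1 : A → ℂ) (l.1 : A → ℂ) := not_rel_of_mult (χ := χ₁) (by omega)
  have hrel' : ¬ Rel A (l.1 : A → ℂ) (m.1 : A → ℂ) := fun h => hrel h.symm
  rw [← sub_eq_zero]
  apply Core.classInner_self_eq_zero
  have e1 := inner_ind_sub χ₁ l.1 m.1
  have e2 := inner_ind_sub χ₂ l.1 m.1
  rw [h1l, h1m] at e1
  rw [h2l, h2m] at e2
  have e3 := classInner_indFun_sub hA l.1.2 m.1.2 l.1.2 m.1.2 l.2 m.2
  rw [if_pos (Rel.refl _), if_neg hrel, if_neg hrel', if_pos (Rel.refl _)] at e3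
  have e4 : classInner (χ₁ : D → ℂ) (indFun A ((l.1 : A → ℂ) - (m.1 : A → ℂ))) = 1 := by
    rw [← Core.classInner_conj_symm, e1]; simp
  have e5 : classInner (χ₂ : D → ℂ) (indFun A ((l.1 : A → ℂ) - (m.1 : A → ℂ))) = -1 := by
    rw [← Core.classInner_conj_symm, e2]; simp
  simp only [Core.classInner_sub_left, Core.classInner_sub_right] at e1 e2 e3 e4 e5 ⊢
  rw [Core.classInner_irr_self χ₁.2, Core.classInner_irr_self χ₂.2,
    Core.classInner_irr_ne χ₁.2 χ₂.2 (fun h => hne (Subtype.ext h)),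
    Core.classInner_irr_ne χ₂.2 χ₁.2 (fun h => hne (Subtype.ext h.symm)), e1, e2, e3, e4, e5]
  push_cast
  ring

/-- The constituents of the restriction are a single orbit. -/
theorem rel_of_mult [Fintype A] (hA : IsCC A) {χ₁ χ₂ : IrrCharacter D} (hne : χ₁ ≠ χ₂)
    {l l' m : NP A} (h1l : mult χ₁ l.1 = 1) (h1l' : mult χ₁ l'.1 = 1) (h1m : mult χ₁ m.1 = 0)
    (h2l : mult χ₂ l.1 = 0) (h2l' : mult χ₂ l'.1 = 0) (h2m : mult χ₂ m.1 = 1) :
    Rel A (l.1 : A → ℂ) (l'.1 : A → ℂ) := by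
  by_contra hrel
  have hrel' : ¬ Rel A (l'.1 : A → ℂ) (l.1 : A → ℂ) := fun h => hrel h.symm
  have h1 := ind_eq hA hne h1l h1m h2l h2m
  have h2 := ind_eq hA hne h1l' h1m h2l' h2m
  have h3 : indFun A ((l.1 : A → ℂ) - (l'.1 : A → ℂ)) = 0 := by
    have e : indFun A ((l.1 : A → ℂ) - (l'.1 : A → ℂ)) =
        indFun A ((l.1 : A → ℂ) - (m.1 : A → ℂ)) - indFun A ((l'.1 : A → ℂ) - (m.1 : A → ℂ)) := by
      rw [indFun_sub, indFun_sub, indFun_sub]; abel
    rw [e, h1, h2, sub_self]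
  have e3 := classInner_indFun_sub hA l.1.2 l'.1.2 l.1.2 l'.1.2 l.2 l'.2
  rw [if_pos (Rel.refl _), if_neg hrel, if_neg hrel', if_pos (Rel.refl _), h3,
    Core.classInner_zero_left] at e3
  norm_num at e3


theorem mult_one_one [Fintype A] : mult (one D) (one A) = 1 := by
  have h := mult_spec (one D) (one A)
  have h1 : classInner (fun a : A => ((one D : IrrCharacter D) : D → ℂ) a)
      ((one A : IrrCharacter A) : A → ℂ) = 1 := Core.classInner_irr_self Core.isIrr_one
  rw [h1] at h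
  exact_mod_cast h.symm

theorem mult_one_ne [Fintype A] {l : IrrCharacter A} (hl : (l : A → ℂ) ≠ 1) :
    mult (one D) l = 0 := by
  have h := mult_spec (one D) l
  have h1 : classInner (fun a : A => ((one D : IrrCharacter D) : D → ℂ) a) (l : A → ℂ) = 0 :=
    Core.classInner_irr_ne Core.isIrr_one l.2 (fun h => hl h.symm)
  rw [h1] at h
  exact_mod_cast h.symm

/-- The data of the permutation character. -/
structure Dat [Fintype A] [Fintype (IrrCharacter D)] (S : Subgroup D) [Fintype S] (π : D → ℂ)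
    (n : IrrCharacter D → ℕ) (m : ℕ) : Prop where
  hA : IsCC A
  hn : π = ∑ ψ : IrrCharacter D, n ψ • (ψ : D → ℂ)
  hπS : ∀ χ : D → ℂ, IsClassFunction D χ →
    classInner π χ = classInner (1 : S → ℂ) (fun h : S => χ h)
  hπA : ∀ a ∈ A, a ≠ 1 → π a = 0
  hπ1 : π 1 = Nat.card A
  hS : ∀ y ∈ S, ∀ x : D, x ≠ 1 → x ∈ A → ¬ IsConj x y
  h2 : ¬ IsIrrCharacter D (π - 1)
  hm : Nat.card (Subgroup.normalizer (A : Set D)) = Nat.card A * m
  hm2 : 2 ≤ m
  hmn : (m - 1) ^ 2 < Nat.card A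

namespace Dat

variable [Fintype A] [Fintype (IrrCharacter D)] {S : Subgroup D} [Fintype S] {π : D → ℂ}
  {n : IrrCharacter D → ℕ} {m : ℕ}

theorem sum_n_mult (h : Dat (A := A) S π n m) (θ : IrrCharacter A) :
    ∑ ψ : IrrCharacter D, (n ψ : ℤ) * mult ψ θ = 1 := by
  classical
  have h1 : classInner (fun a : A => π a) (θ : A → ℂ) = 1 := by
    rw [Core.classInner_def, Finset.sum_eq_single (1 : A)]
    · rw [Subgroup.coe_one, h.hπ1, irr_apply_one_of_comm (comm_coe h.hA) θ.2, map_one, mul_one,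
        inv_mul_cancel₀ Core.card_ne_zero_complex]
    · intro a _ ha
      rw [h.hπA a a.2 (fun hc => ha (Subtype.ext hc)), zero_mul]
    · intro hc
      exact absurd (Finset.mem_univ _) hc
  have h2 : (fun a : A => π a) = ∑ ψ : IrrCharacter D, (n ψ : ℂ) • (fun a : A => (ψ : D → ℂ) a) := by
    funext a
    rw [h.hn, Finset.sum_apply, Finset.sum_apply]
    refine Finset.sum_congr rfl fun ψ _ => ?_
    simp
  rw [h2, Core.classInner_sum_left] at h1
  have h3 : ∑ ψ : IrrCharacter D, classInner ((n ψ : ℂ) • (fun a : A => (ψ : D → ℂ) a)) (θ : A → ℂ) =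
      ((∑ ψ : IrrCharacter D, (n ψ : ℤ) * mult ψ θ : ℤ) : ℂ) := by
    push_cast
    refine Finset.sum_congr rfl fun ψ _ => ?_
    rw [Core.classInner_smul_left, mult_spec]
  rw [h3] at h1
  exact_mod_cast h1

theorem n_one (h : Dat (A := A) S π n m) : n (one D) = 1 := by
  have h1 := h.hπS 1 (Core.isIrr_isClassFunction Core.isIrr_one)
  have h2 : classInner (1 : S → ℂ) (fun x : S => (1 : D → ℂ) x) = 1 :=
    Core.classInner_irr_self Core.isIrr_one
  have h3 := Core.classInner_sum_nsmul_irr n (one D)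
  rw [← h.hn, coe_one, h1, h2] at h3
  exact_mod_cast h3.symm

theorem exists_mult_pos (h : Dat (A := A) S π n m) (ψ : IrrCharacter D) : ∃ θ : IrrCharacter A, 1 ≤ mult ψ θ := by
  have : Finite (IrrCharacter A) := Core.finite_irr
  have : Fintype (IrrCharacter A) := Fintype.ofFinite _
  by_contra hc
  push Not at hc
  have h1 := sum_mult h.hA ψ
  rw [Finset.sum_eq_zero (fun l _ => le_antisymm (by have := hc l; omega) (mult_nonneg ψ l))] at h1
  exact Core.isIrr_apply_one_ne_zero ψ.2 (by simpa using h1)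

theorem term_nonneg (ψ : IrrCharacter D) (θ : IrrCharacter A) : 0 ≤ (n ψ : ℤ) * mult ψ θ :=
  mul_nonneg (Int.natCast_nonneg _) (mult_nonneg _ _)

theorem term_le (h : Dat (A := A) S π n m) (ψ : IrrCharacter D) (θ : IrrCharacter A) :
    (n ψ : ℤ) * mult ψ θ ≤ 1 := by
  rw [← h.sum_n_mult θ]
  exact Finset.single_le_sum (f := fun ψ : IrrCharacter D => (n ψ : ℤ) * mult ψ θ)
    (fun ψ _ => term_nonneg ψ θ) (Finset.mem_univ ψ)

theorem term_add_le (h : Dat (A := A) S π n m) {ψ ψ' : IrrCharacter D} (hne : ψ ≠ ψ')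
    (θ : IrrCharacter A) : (n ψ : ℤ) * mult ψ θ + (n ψ' : ℤ) * mult ψ' θ ≤ 1 := by
  classical
  rw [← h.sum_n_mult θ, ← Finset.sum_pair (f := fun ψ : IrrCharacter D => (n ψ : ℤ) * mult ψ θ) hne]
  exact Finset.sum_le_sum_of_subset_of_nonneg (Finset.subset_univ _) (fun ψ _ _ => term_nonneg ψ θ)

theorem n_le (h : Dat (A := A) S π n m) (ψ : IrrCharacter D) : n ψ ≤ 1 := by
  obtain ⟨θ, hθ⟩ := h.exists_mult_pos ψ
  have h1 := h.term_le ψ θ
  by_contra hc
  push Not at hc
  have : (2 : ℤ) * 1 ≤ (n ψ : ℤ) * mult ψ θ := by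
    apply mul_le_mul _ hθ (by norm_num) (Int.natCast_nonneg _)
    exact_mod_cast hc
  omega

theorem mult_le (h : Dat (A := A) S π n m) {ψ : IrrCharacter D} (hψ : n ψ = 1)
    (θ : IrrCharacter A) : mult ψ θ ≤ 1 := by
  have := h.term_le ψ θ
  rw [hψ] at this
  simpa using this

theorem mult_eq_zero (h : Dat (A := A) S π n m) {ψ ψ' : IrrCharacter D} (hne : ψ ≠ ψ')
    (hψ : n ψ = 1) (hψ' : n ψ' = 1) {θ : IrrCharacter A} (hθ : mult ψ θ = 1) :
    mult ψ' θ = 0 := by
  have h1 := h.term_add_le hne θ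
  rw [hψ, hψ', hθ] at h1
  have h2 := mult_nonneg ψ' θ
  push_cast at h1
  omega

theorem mult_one_eq_zero (h : Dat (A := A) S π n m) {ψ : IrrCharacter D} (hne : ψ ≠ one D)
    (hψ : n ψ = 1) : mult ψ (one A) = 0 :=
  h.mult_eq_zero hne.symm h.n_one hψ mult_one_one

theorem exists_np (h : Dat (A := A) S π n m) {ψ : IrrCharacter D} (hne : ψ ≠ one D)
    (hψ : n ψ = 1) : ∃ l : NP A, mult ψ l.1 = 1 := by
  obtain ⟨θ, hθ⟩ := h.exists_mult_pos ψ
  have h1 := h.mult_le hψ θ
  have h2 : mult ψ θ = 1 := by omega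
  refine ⟨⟨θ, ?_⟩, h2⟩
  intro hc
  have : θ = one A := Subtype.ext hc
  rw [this, h.mult_one_eq_zero hne hψ] at hθ
  omega

theorem exists_of_np (h : Dat (A := A) S π n m) (l : NP A) :
    ∃ ψ : IrrCharacter D, ψ ≠ one D ∧ n ψ = 1 ∧ mult ψ l.1 = 1 := by
  by_contra hc
  push Not at hc
  have h1 := h.sum_n_mult l.1
  rw [Finset.sum_eq_zero] at h1
  · omega
  · intro ψ _
    by_cases h3 : ψ = one D
    · rw [h3, mult_one_ne l.2, mul_zero]
    · have h2 := h.n_le ψ
      by_cases h4 : n ψ = 0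
      · rw [h4]; simp
      · have h5 : n ψ = 1 := by omega
        have h6 := h.mult_le h5 l.1
        have h7 := mult_nonneg ψ l.1
        have h8 := hc ψ h3 h5
        have : mult ψ l.1 = 0 := by omega
        rw [this, mul_zero]

open Classical in
/-- The nonprincipal constituents. -/
noncomputable def Psi (n : IrrCharacter D → ℕ) : Finset (IrrCharacter D) :=
  Finset.univ.filter (fun ψ => ψ ≠ one D ∧ n ψ = 1)

theorem mem_Psi {ψ : IrrCharacter D} : ψ ∈ Psi n ↔ ψ ≠ one D ∧ n ψ = 1 := by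
  simp [Psi]

theorem pi_eq (h : Dat (A := A) S π n m) : π = 1 + ∑ ψ ∈ Psi n, (ψ : D → ℂ) := by
  classical
  have h1 : ∑ ψ : IrrCharacter D, n ψ • (ψ : D → ℂ) =
      n (one D) • ((one D : IrrCharacter D) : D → ℂ) +
        ∑ ψ ∈ Finset.univ.erase (one D), n ψ • (ψ : D → ℂ) :=
    (Finset.add_sum_erase _ _ (Finset.mem_univ _)).symm
  have h2 : ∑ ψ ∈ Finset.univ.erase (one D), n ψ • (ψ : D → ℂ) = ∑ ψ ∈ Psi n, (ψ : D → ℂ) := by
    symm
    rw [Finset.sum_subset_zero_on_sdiff (s₁ := Psi n) (s₂ := Finset.univ.erase (one D))]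
    · intro ψ hψ
      rw [mem_Psi] at hψ
      exact Finset.mem_erase.2 ⟨hψ.1, Finset.mem_univ _⟩
    · intro ψ hψ
      rw [Finset.mem_sdiff, mem_Psi, Finset.mem_erase] at hψ
      have h3 := h.n_le ψ
      have : n ψ = 0 := by
        have := hψ.2
        by_contra h4
        exact this ⟨hψ.1.1, by omega⟩
      rw [this, zero_smul]
    · intro ψ hψ
      rw [mem_Psi] at hψ
      rw [hψ.2, one_smul]
  rw [h.hn, h1, h2, h.n_one, one_smul, coe_one]

theorem two_le_card (h : Dat (A := A) S π n m) : 1 < (Psi n).card := by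
  by_contra hc
  push Not at hc
  have h1 := h.pi_eq
  rcases Nat.lt_or_ge (Psi n).card 1 with h0 | h0
  · have h2 : Psi n = ∅ := Finset.card_eq_zero.1 (by omega)
    rw [h2, Finset.sum_empty, add_zero] at h1
    have h3 := h.hπ1
    rw [h1, Pi.one_apply] at h3
    have h4 : Nat.card A = 1 := by exact_mod_cast h3.symm
    exact h.hA.ne_bot (Subgroup.card_eq_one.1 h4)
  · have h2 : (Psi n).card = 1 := by omega
    obtain ⟨ψ, hψ⟩ := Finset.card_eq_one.1 h2
    rw [hψ, Finset.sum_singleton] at h1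
    apply h.h2
    rw [h1, add_sub_cancel_left]
    exact ψ.2

theorem exists_other (h : Dat (A := A) S π n m) (ψ : IrrCharacter D) :
    ∃ ψ' ∈ Psi n, ψ' ≠ ψ := Finset.exists_mem_ne h.two_le_card ψ

theorem ind_eq' (h : Dat (A := A) S π n m) {ψ ψ' : IrrCharacter D} (hψ : ψ ∈ Psi n)
    (hψ' : ψ' ∈ Psi n) (hne : ψ ≠ ψ') {l l' : NP A} (hl : mult ψ l.1 = 1)
    (hl' : mult ψ' l'.1 = 1) :
    indFun A ((l.1 : A → ℂ) - (l'.1 : A → ℂ)) = (ψ : D → ℂ) - (ψ' : D → ℂ) := by
  rw [mem_Psi] at hψ hψ'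
  exact ind_eq h.hA hne hl (h.mult_eq_zero hne.symm hψ'.2 hψ.2 hl')
    (h.mult_eq_zero hne hψ.2 hψ'.2 hl) hl'

/-- All constituents agree on the stabiliser. -/
theorem eq_on (h : Dat (A := A) S π n m) {ψ ψ' : IrrCharacter D} (hψ : ψ ∈ Psi n)
    (hψ' : ψ' ∈ Psi n) {y : D} (hy : y ∈ S) : (ψ : D → ℂ) y = (ψ' : D → ℂ) y := by
  by_cases hne : ψ = ψ'
  · rw [hne]
  · obtain ⟨l, hl⟩ := h.exists_np (mem_Psi.1 hψ).1 (mem_Psi.1 hψ).2
    obtain ⟨l', hl'⟩ := h.exists_np (mem_Psi.1 hψ').1 (mem_Psi.1 hψ').2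
    have h1 := congrFun (h.ind_eq' hψ hψ' hne hl hl') y
    rw [indFun_eq_zero_of_not_conj] at h1
    · rw [Pi.sub_apply] at h1
      exact (sub_eq_zero.1 h1.symm)
    · rw [Pi.sub_apply, irr_apply_one_of_comm (comm_coe h.hA) l.1.2,
        irr_apply_one_of_comm (comm_coe h.hA) l'.1.2, sub_self]
    · exact h.hS y hy

/-- The degree of the constituents. -/
theorem degree (h : Dat (A := A) S π n m) {ψ : IrrCharacter D} (hψ : ψ ∈ Psi n) :
    (ψ : D → ℂ) 1 = m := by
  classical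
  have : Finite (IrrCharacter A) := Core.finite_irr
  have : Fintype (IrrCharacter A) := Fintype.ofFinite _
  obtain ⟨ψ', hψ', hne⟩ := h.exists_other ψ
  obtain ⟨l, hl⟩ := h.exists_np (mem_Psi.1 hψ).1 (mem_Psi.1 hψ).2
  obtain ⟨l', hl'⟩ := h.exists_np (mem_Psi.1 hψ').1 (mem_Psi.1 hψ').2
  have key : ∀ θ : IrrCharacter A, mult ψ θ = if Rel A (l.1 : A → ℂ) (θ : A → ℂ) then 1 else 0 := by
    intro θ
    split_ifs with hr
    · by_contra hc
      exact not_rel_of_mult (χ := ψ) (l := θ) (m := l.1) (by rw [hl]; exact hc) hr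
    · have h1 := h.mult_le (mem_Psi.1 hψ).2 θ
      have h2 := mult_nonneg ψ θ
      by_contra hc
      have h3 : mult ψ θ = 1 := by omega
      have h4 : (θ : A → ℂ) ≠ 1 := by
        intro h5
        have : θ = one A := Subtype.ext h5
        rw [this, h.mult_one_eq_zero (mem_Psi.1 hψ).1 (mem_Psi.1 hψ).2] at h3
        omega
      apply hr
      exact rel_of_mult h.hA hne.symm (l := l) (l' := ⟨θ, h4⟩) (m := l') hl h3
        (h.mult_eq_zero hne (mem_Psi.1 hψ').2 (mem_Psi.1 hψ).2 hl')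
        (h.mult_eq_zero hne.symm (mem_Psi.1 hψ).2 (mem_Psi.1 hψ').2 hl)
        (h.mult_eq_zero hne.symm (mem_Psi.1 hψ).2 (mem_Psi.1 hψ').2 h3) hl'
  rw [sum_mult h.hA ψ, Finset.sum_congr rfl (fun θ _ => key θ), Finset.sum_boole]
  have h1 := card_rel_mul_card h.hA l.1.2 l.2
  rw [h.hm, mul_comm] at h1
  have h2 := Nat.eq_of_mul_eq_mul_left Nat.card_pos h1
  rw [h2]
  push_cast
  rfl

/-- A character outside the set of constituents has constant multiplicities. -/
theorem mult_const (h : Dat (A := A) S π n m) {ψ : IrrCharacter D} (hψ : ψ ∉ Psi n) (l l' : NP A) :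
    mult ψ l.1 = mult ψ l'.1 := by
  have key : ∀ {χ χ' : IrrCharacter D}, χ ∈ Psi n → χ' ∈ Psi n → χ ≠ χ' → ∀ l l' : NP A,
      mult χ l.1 = 1 → mult χ' l'.1 = 1 → mult ψ l.1 = mult ψ l'.1 := by
    intro χ χ' hχ hχ' hne l l' hl hl'
    have h1 := inner_ind_sub ψ l.1 l'.1
    rw [h.ind_eq' hχ hχ' hne hl hl', Core.classInner_sub_left,
      Core.classInner_irr_ne χ.2 ψ.2 (fun hc => hψ (by rwa [← Subtype.ext hc])),
      Core.classInner_irr_ne χ'.2 ψ.2 (fun hc => hψ (by rwa [← Subtype.ext hc]))] at h1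
    have h2 : (mult ψ l.1 : ℂ) = (mult ψ l'.1 : ℂ) := by linear_combination -h1
    exact_mod_cast h2
  obtain ⟨χ, h1, h2, h3⟩ := h.exists_of_np l
  obtain ⟨χ', h1', h2', h3'⟩ := h.exists_of_np l'
  have hχ : χ ∈ Psi n := mem_Psi.2 ⟨h1, h2⟩
  have hχ' : χ' ∈ Psi n := mem_Psi.2 ⟨h1', h2'⟩
  by_cases hne : χ = χ'
  · obtain ⟨χ'', h4, h5⟩ := h.exists_other χ
    obtain ⟨l'', hl''⟩ := h.exists_np (mem_Psi.1 h4).1 (mem_Psi.1 h4).2
    rw [key hχ h4 h5.symm l l'' h3 hl'', key h4 hχ' (by rw [← hne]; exact h5) l'' l' hl'' h3']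
  · exact key hχ hχ' hne l l' h3 h3'

/-- The values on the stabiliser. -/
theorem values (h : Dat (A := A) S π n m) {y : D} (hy : y ∈ S) :
    π y = 1 ∨ π y = Nat.card A := by
  classical
  have : Finite (IrrCharacter A) := Core.finite_irr
  have : Fintype (IrrCharacter A) := Fintype.ofFinite _
  obtain ⟨χ₁, hχ₁, -⟩ := h.exists_other (one D)
  obtain ⟨χ₂, hχ₂, hne⟩ := h.exists_other χ₁
  have hX : IsCharacter D (fun g => (χ₁ : D → ℂ) g * conj ((χ₂ : D → ℂ) g)) :=
    Core.isCharacter_mul (Core.isIrr_isCharacter χ₁.2)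
      (Core.isCharacter_conj (Core.isIrr_isCharacter χ₂.2))
  obtain ⟨k, hk⟩ := Core.exists_nat_comb hX
  have hkψ : ∀ ψ : IrrCharacter D,
      classInner (fun g => (χ₁ : D → ℂ) g * conj ((χ₂ : D → ℂ) g)) (ψ : D → ℂ) = k ψ := by
    intro ψ
    rw [hk]
    exact Core.classInner_sum_nsmul_irr k ψ
  have hk1 : k (one D) = 0 := by
    have h1 := hkψ (one D)
    have h2 : classInner (fun g => (χ₁ : D → ℂ) g * conj ((χ₂ : D → ℂ) g))
        ((one D : IrrCharacter D) : D → ℂ) = classInner (χ₁ : D → ℂ) (χ₂ : D → ℂ) := by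
      rw [Core.classInner_def, Core.classInner_def, coe_one]
      simp
    rw [h2, Core.classInner_irr_ne χ₁.2 χ₂.2 (fun hc => hne (Subtype.ext hc.symm))] at h1
    exact_mod_cast h1.symm
  -- b
  obtain ⟨b, hb⟩ : ∃ b : ℕ, b = ∑ ψ ∈ Psi n, k ψ := ⟨_, rfl⟩
  have hbX : (b : ℂ) =
      classInner (fun x : S => (χ₁ : D → ℂ) x) (fun x : S => (χ₂ : D → ℂ) x) := by
    have h1 := h.hπS (fun g => (χ₁ : D → ℂ) g * conj ((χ₂ : D → ℂ) g))
      (Core.isCharacter_isClassFunction hX)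
    have h2 : classInner π (fun g => (χ₁ : D → ℂ) g * conj ((χ₂ : D → ℂ) g)) = b := by
      rw [← Core.classInner_conj_symm, h.pi_eq, Core.classInner_add_right,
        Core.classInner_sum_right, ← coe_one D, hkψ, hk1, hb]
      simp only [hkψ]
      simp
    rw [h2] at h1
    have h3 : (b : ℂ) =
        classInner (fun x : S => (χ₁ : D → ℂ) x * conj ((χ₂ : D → ℂ) x)) (1 : S → ℂ) := by
      rw [← Core.classInner_conj_symm, ← h1, map_natCast]
    rw [h3, Core.classInner_def, Core.classInner_def]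
    simp
  have hbX' : (b : ℂ) =
      classInner (fun x : S => (χ₁ : D → ℂ) x) (fun x : S => (χ₁ : D → ℂ) x) := by
    rw [hbX]
    congr 1
    funext x
    exact h.eq_on hχ₂ hχ₁ x.2
  have hf1 : classInner (1 : S → ℂ) (fun x : S => (χ₁ : D → ℂ) x) = 1 := by
    rw [← h.hπS (χ₁ : D → ℂ) (Core.isIrr_isClassFunction χ₁.2), h.hn,
      Core.classInner_sum_nsmul_irr n χ₁, (mem_Psi.1 hχ₁).2, Nat.cast_one]
  have hf1' : classInner (fun x : S => (χ₁ : D → ℂ) x) (1 : S → ℂ) = 1 := by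
    rw [← Core.classInner_conj_symm, hf1, map_one]
  have hb2 : 2 ≤ b := by
    have h1 : classInner ((fun x : S => (χ₁ : D → ℂ) x) - 1) ((fun x : S => (χ₁ : D → ℂ) x) - 1) =
        (b : ℂ) - 1 := by
      rw [Core.classInner_sub_left, Core.classInner_sub_right, Core.classInner_sub_right, ← hbX',
        hf1, hf1', Core.classInner_irr_self Core.isIrr_one]
      ring
    by_contra hc
    push Not at hc
    have h3 : b = 0 ∨ b = 1 := by omega
    rcases h3 with h3 | h3
    · rw [h3, Core.classInner_self_eq_ofReal] at h1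
      have h4 : (0 : ℝ) ≤ ((Nat.card S : ℝ)⁻¹ *
          ∑ g : S, Complex.normSq (((fun x : S => (χ₁ : D → ℂ) x) - 1) g) : ℝ) :=
        mul_nonneg (inv_nonneg.2 (Nat.cast_nonneg _))
          (Finset.sum_nonneg fun _ _ => Complex.normSq_nonneg _)
      have h5 := congrArg Complex.re h1
      have h6 : ((((0 : ℕ) : ℂ) - 1).re) = -1 := by simp
      rw [Complex.ofReal_re, h6] at h5
      linarith
    · rw [h3, Nat.cast_one, sub_self] at h1
      have h4 := congrFun (Core.classInner_self_eq_zero h1) 1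
      rw [Pi.sub_apply, Pi.zero_apply, Subgroup.coe_one, Pi.one_apply, h.degree hχ₁] at h4
      have h5 : (m : ℂ) = 1 := by linear_combination h4
      have h6 : m = 1 := by exact_mod_cast h5
      have := h.hm2
      omega
  -- multiplicities outside
  obtain ⟨μ, hμ⟩ : ∃ μ : IrrCharacter A → ℤ,
      μ = fun l => ∑ ψ ∈ Finset.univ \ Psi n, (k ψ : ℤ) * mult ψ l := ⟨_, rfl⟩
  have hμ0 : ∀ l, 0 ≤ μ l := by
    intro l
    rw [hμ]
    exact Finset.sum_nonneg fun ψ _ => term_nonneg ψ l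
  have hμ1 : μ (one A) = 0 := by
    refine le_antisymm ?_ (hμ0 _)
    have h1 : ∑ ψ : IrrCharacter D, (k ψ : ℤ) * mult ψ (one A) = 0 := by
      have h2 : classInner (fun a : A => (χ₁ : D → ℂ) a * conj ((χ₂ : D → ℂ) a))
          ((one A : IrrCharacter A) : A → ℂ) = 0 := by
        have h3 : classInner (fun a : A => (χ₁ : D → ℂ) a * conj ((χ₂ : D → ℂ) a))
          ((one A : IrrCharacter A) : A → ℂ) =
            classInner (fun a : A => (χ₁ : D → ℂ) a) (fun a : A => (χ₂ : D → ℂ) a) := by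
          rw [Core.classInner_def, Core.classInner_def, coe_one]
          simp
        rw [h3, Core.classInner_eq_sum (classFunction_of_comm h.hA _)
          (classFunction_of_comm h.hA _)]
        refine Finset.sum_eq_zero fun l _ => ?_
        rw [mult_spec, mult_spec]
        have h4 := h.term_add_le hne l
        rw [(mem_Psi.1 hχ₁).2, (mem_Psi.1 hχ₂).2] at h4
        have h5 := mult_nonneg χ₁ l
        have h6 := mult_nonneg χ₂ l
        push_cast at h4
        have h7 : mult χ₁ l = 0 ∨ mult χ₂ l = 0 := by omega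
        rcases h7 with h7 | h7
        · rw [h7]; simp
        · rw [h7]; simp
      have h3 : (fun a : A => (χ₁ : D → ℂ) a * conj ((χ₂ : D → ℂ) a)) =
          ∑ ψ : IrrCharacter D, (k ψ : ℂ) • (fun a : A => (ψ : D → ℂ) a) := by
        funext a
        have h4 := congrFun hk (a : D)
        rw [Finset.sum_apply] at h4
        rw [Finset.sum_apply]
        refine h4.trans (Finset.sum_congr rfl fun ψ _ => ?_)
        simp
      rw [h3, Core.classInner_sum_left] at h2
      have h5 : ∑ ψ : IrrCharacter D, classInner ((k ψ : ℂ) • (fun a : A => (ψ : D → ℂ) a))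
          ((one A : IrrCharacter A) : A → ℂ) =
          ((∑ ψ : IrrCharacter D, (k ψ : ℤ) * mult ψ (one A) : ℤ) : ℂ) := by
        push_cast
        refine Finset.sum_congr rfl fun ψ _ => ?_
        rw [Core.classInner_smul_left, mult_spec]
      rw [h5] at h2
      exact_mod_cast h2
    rw [hμ, ← h1]
    exact Finset.sum_le_sum_of_subset_of_nonneg (Finset.subset_univ _)
      (fun ψ _ _ => term_nonneg ψ (one A))
  obtain ⟨l₀⟩ := nonempty_np h.hA
  have hμc : ∀ l : NP A, μ l.1 = μ l₀.1 := by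
    intro l
    rw [hμ]
    refine Finset.sum_congr rfl fun ψ hψ => ?_
    rw [h.mult_const (Finset.mem_sdiff.1 hψ).2 l l₀]
  have : Fintype (NP A) := Fintype.ofFinite _
  have hsum : ∑ l : IrrCharacter A, μ l = ((Nat.card A : ℤ) - 1) * μ l₀.1 := by
    rw [sum_irr_eq, hμ1, zero_add, Finset.sum_congr rfl (fun l _ => hμc l), Finset.sum_const,
      Finset.card_univ]
    have := card_np h.hA
    rw [← this]
    push_cast
    rw [nsmul_eq_mul]
    ring
  have hdeg : ∑ ψ ∈ Finset.univ \ Psi n, (k ψ : ℂ) * (ψ : D → ℂ) 1 =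
      ((((Nat.card A : ℤ) - 1) * μ l₀.1 : ℤ) : ℂ) := by
    rw [← hsum, hμ]
    simp only []
    rw [Finset.sum_comm]
    push_cast
    refine Finset.sum_congr rfl fun ψ _ => ?_
    rw [sum_mult h.hA ψ, ← Finset.mul_sum]
    push_cast
    rfl
  have hX1 : ((m : ℂ) * m) = (b : ℂ) * m + ((((Nat.card A : ℤ) - 1) * μ l₀.1 : ℤ) : ℂ) := by
    have h1 := congrFun hk 1
    rw [Finset.sum_apply, h.degree hχ₁, h.degree hχ₂, map_natCast] at h1
    rw [h1, ← hdeg, ← Finset.sum_sdiff (Finset.subset_univ (Psi n)), add_comm]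
    congr 1
    · rw [hb]
      push_cast
      rw [Finset.sum_mul]
      refine Finset.sum_congr rfl fun ψ hψ => ?_
      rw [Pi.smul_apply, h.degree hψ, nsmul_eq_mul]
    · refine Finset.sum_congr rfl fun ψ _ => ?_
      rw [Pi.smul_apply, nsmul_eq_mul]
  have hX2 : (m : ℤ) * m = b * m + ((Nat.card A : ℤ) - 1) * μ l₀.1 := by exact_mod_cast hX1
  have hμl : μ l₀.1 = 0 := by
    by_contra hc
    have h1 : 1 ≤ μ l₀.1 := by have := hμ0 l₀.1; omega
    have h2 : 1 ≤ Nat.card A := Nat.card_pos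
    have h3 : ((m - 1 : ℕ) : ℤ) ^ 2 < Nat.card A := by exact_mod_cast h.hmn
    have h4 : ((m - 1 : ℕ) : ℤ) = m - 1 := by
      have := h.hm2
      omega
    rw [h4] at h3
    have h5 : (2 : ℤ) * m ≤ b * m := by
      apply mul_le_mul_of_nonneg_right _ (Int.natCast_nonneg _)
      exact_mod_cast hb2
    have h6 : ((Nat.card A : ℤ) - 1) * 1 ≤ ((Nat.card A : ℤ) - 1) * μ l₀.1 :=
      mul_le_mul_of_nonneg_left h1 (by omega)
    nlinarith
  rw [hμl, mul_zero, add_zero] at hX2
  have hbm : b = m := by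
    have h1 : (m : ℤ) ≠ 0 := by
      have := h.hm2
      omega
    have h2 := mul_right_cancel₀ h1 hX2
    exact_mod_cast h2.symm
  have hk0 : ∀ ψ ∈ Finset.univ \ Psi n, k ψ = 0 := by
    have h1 : ∑ ψ ∈ Finset.univ \ Psi n, (k ψ : ℂ) * (ψ : D → ℂ) 1 = 0 := by
      rw [hdeg, hμl, mul_zero, Int.cast_zero]
    have h2 : ∀ ψ : IrrCharacter D, ∃ d : ℕ, 0 < d ∧ (ψ : D → ℂ) 1 = d :=
      fun ψ => Core.isIrr_apply_one ψ.2
    choose d hd hd' using h2
    have h3 : ∑ ψ ∈ Finset.univ \ Psi n, k ψ * d ψ = 0 := by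
      have : ((∑ ψ ∈ Finset.univ \ Psi n, k ψ * d ψ : ℕ) : ℂ) = 0 := by
        push_cast
        rw [← h1]
        exact Finset.sum_congr rfl fun ψ _ => by rw [hd']
      exact_mod_cast this
    intro ψ hψ
    have h4 := (Finset.sum_eq_zero_iff.1 h3) ψ hψ
    rcases Nat.mul_eq_zero.1 h4 with h5 | h5
    · exact h5
    · have := hd ψ
      omega
  have hXy : (χ₁ : D → ℂ) y * conj ((χ₁ : D → ℂ) y) = (m : ℂ) * (χ₁ : D → ℂ) y := by
    have h1 := congrFun hk y
    rw [Finset.sum_apply, ← Finset.sum_sdiff (Finset.subset_univ (Psi n)),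
      Finset.sum_eq_zero (fun ψ hψ => by rw [hk0 ψ hψ, zero_smul]; rfl), zero_add] at h1
    have h2 : ∑ ψ ∈ Psi n, (k ψ • (ψ : D → ℂ)) y = (m : ℂ) * (χ₁ : D → ℂ) y := by
      rw [← hbm, hb]
      push_cast
      rw [Finset.sum_mul]
      refine Finset.sum_congr rfl fun ψ hψ => ?_
      rw [Pi.smul_apply, nsmul_eq_mul, h.eq_on hψ hχ₁ hy]
    rw [h2] at h1
    rw [← h1, h.eq_on hχ₂ hχ₁ hy]
  have hpi : ∀ z ∈ S, π z = 1 + ((Psi n).card : ℂ) * (χ₁ : D → ℂ) z := by
    intro z hz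
    rw [h.pi_eq, Pi.add_apply, Pi.one_apply, Finset.sum_apply,
      Finset.sum_congr rfl (fun ψ hψ => h.eq_on hψ hχ₁ hz), Finset.sum_const, nsmul_eq_mul]
  have hpi1 := hpi 1 S.one_mem
  rw [h.hπ1, h.degree hχ₁] at hpi1
  have h1 : (χ₁ : D → ℂ) y * (conj ((χ₁ : D → ℂ) y) - m) = 0 := by linear_combination hXy
  rcases mul_eq_zero.1 h1 with h2 | h2
  · left
    rw [hpi y hy, h2, mul_zero, add_zero]
  · right
    have h3 : conj ((χ₁ : D → ℂ) y) = m := by linear_combination h2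
    have h4 : (χ₁ : D → ℂ) y = m := by
      have := congrArg conj h3
      rwa [Complex.conj_conj, map_natCast] at this
    rw [hpi y hy, h4, hpi1]

end Dat

end Cfsg.Agent.H393.CCStep

namespace Cfsg.Agent.H393

open Characters Characters.CCBasic CharactersDeep.NormalInd

/-- A transitive, not doubly transitive group with a regular subgroup `P` which is the centraliser of
each of its non-identity elements, and with `2 ≤ m = |N(P) : P|`, `(m - 1)^2 < |P|`, is a Frobenius
group. -/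
theorem cc_step {D Ω : Type*} [Group D] [Finite D] [MulAction D Ω] [FaithfulSMul D Ω] [Finite Ω]
    (htr : MulAction.IsPretransitive D Ω) (h2 : ¬ MulAction.IsMultiplyPretransitive D Ω 2)
    (P : Subgroup D) (x : Ω) (hPr : P.IsComplement' (MulAction.stabilizer D x))
    (hCC : ∀ z ∈ P, z ≠ 1 → Subgroup.centralizer ({z} : Set D) = P) (m : ℕ)
    (hm : Nat.card (Subgroup.normalizer (P : Set D)) = Nat.card P * m) (hm2 : 2 ≤ m)
    (hmn : (m - 1) ^ 2 < Nat.card P) :
    ∀ g : D, g ≠ 1 → Nat.card (MulAction.fixedBy Ω g) ≤ 1 := by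
  classical
  have : Fintype D := Fintype.ofFinite D
  have : Fintype P := Fintype.ofFinite P
  have : Fintype (MulAction.stabilizer D x) := Fintype.ofFinite _
  have : Finite (IrrCharacter D) := Core.finite_irr
  have : Fintype (IrrCharacter D) := Fintype.ofFinite _
  have hne : P ≠ ⊥ := by
    rintro rfl
    rw [Subgroup.card_bot] at hmn
    have : 1 ≤ m - 1 := by omega
    have : 1 ^ 2 ≤ (m - 1) ^ 2 := Nat.pow_le_pow_left this 2
    omega
  have hA : IsCC P := ⟨hne, hCC⟩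
  have hcard : Nat.card P = Nat.card Ω := by
    have h1 := hPr.card_mul_card
    have h3 := MulAction.index_stabilizer_of_transitive D x
    have h4 := (MulAction.stabilizer D x).card_mul_index
    rw [h3, ← h1, mul_comm] at h4
    exact (Nat.eq_of_mul_eq_mul_right Nat.card_pos h4).symm
  have hcard2 : 2 ≤ Nat.card Ω := by
    rw [← hcard]
    have : 1 ≤ m - 1 := by omega
    have : 1 ^ 2 ≤ (m - 1) ^ 2 := Nat.pow_le_pow_left this 2
    omega
  have hfree : ∀ a ∈ P, ∀ ω : Ω, a • ω = ω → a = 1 := by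
    intro a ha ω hω
    obtain ⟨g, rfl⟩ := MulAction.exists_smul_eq D x ω
    obtain ⟨⟨p, s⟩, hps⟩ := (hPr.existsUnique g).exists
    have hps' : (p : D) * (s : D) = g := hps
    have hg : g • x = (p : D) • x := by
      rw [← hps', mul_smul, MulAction.mem_stabilizer_iff.1 s.2]
    rw [hg, ← mul_smul] at hω
    have h3 : (p : D)⁻¹ * a * p ∈ MulAction.stabilizer D x := by
      rw [MulAction.mem_stabilizer_iff, mul_assoc, mul_smul, hω, inv_smul_smul]
    have h4 : (p : D)⁻¹ * a * p ∈ P := P.mul_mem (P.mul_mem (P.inv_mem p.2) ha) p.2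
    have h5 : (p : D)⁻¹ * a * p = 1 := by
      have := hPr.disjoint.le_bot (Subgroup.mem_inf.2 ⟨h4, h3⟩)
      exact Subgroup.mem_bot.1 this
    have h6 : a = (p : D) * ((p : D)⁻¹ * a * p) * (p : D)⁻¹ := by group
    rw [h6, h5]
    simp
  obtain ⟨π, hπ⟩ : ∃ π : D → ℂ, π = fun g : D => (Nat.card (MulAction.fixedBy Ω g) : ℂ) := ⟨_, rfl⟩
  have hπc : IsCharacter D π := by
    rw [hπ]
    exact S0157.isCharacter_fixedBy Ω
  obtain ⟨n, hn⟩ := Core.exists_nat_comb hπc
  have hD : CCStep.Dat (A := P) (MulAction.stabilizer D x) π n m := by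
    refine ⟨hA, hn, ?_, ?_, ?_, ?_, ?_, hm, hm2, hmn⟩
    · intro χ hχ
      rw [hπ, S0190.result Ω x, classInner_indFun _ _ _ hχ]
      rfl
    · intro a ha ha1
      rw [hπ]
      simp only [Nat.cast_eq_zero]
      rw [Finite.card_eq_zero_iff]
      exact ⟨fun ω => ha1 (hfree a ha ω.1 ω.2)⟩
    · rw [hπ]
      simp only []
      rw [hcard]
      congr 1
      exact Nat.card_congr (Equiv.subtypeUnivEquiv (fun ω => one_smul D ω))
    · intro y hy z hz1 hz hc
      obtain ⟨g, hg⟩ := isConj_iff.1 hc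
      apply hz1
      refine hfree z hz (g⁻¹ • x) ?_
      have h3 : y • x = x := hy
      rw [← hg, mul_smul, mul_smul] at h3
      rw [← inv_smul_eq_iff.2 h3.symm]
    · rw [hπ]
      intro hc
      exact h2 ((S0157.result Ω hcard2).1 hc)
  intro g hg
  by_contra hc
  push Not at hc
  have hpos : 0 < Nat.card (MulAction.fixedBy Ω g) := by omega
  obtain ⟨⟨ω, hω⟩⟩ := (Nat.card_pos_iff.1 hpos).1
  obtain ⟨k, rfl⟩ := MulAction.exists_smul_eq D x ω
  have h3 : k⁻¹ * g * k ∈ MulAction.stabilizer D x := by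
    rw [MulAction.mem_stabilizer_iff, mul_assoc, mul_smul, mul_smul,
      MulAction.mem_fixedBy.1 hω, inv_smul_smul]
  have h4 : π (k⁻¹ * g * k) = π g := by
    have := Core.isCharacter_isClassFunction hπc g k⁻¹
    rwa [inv_inv] at this
  rcases hD.values h3 with h5 | h5
  · rw [h4, hπ] at h5
    change (Nat.card (MulAction.fixedBy Ω g) : ℂ) = 1 at h5
    have h6 : Nat.card (MulAction.fixedBy Ω g) = 1 := by exact_mod_cast h5
    omega
  · rw [h4, hπ, hcard] at h5
    change (Nat.card (MulAction.fixedBy Ω g) : ℂ) = (Nat.card Ω : ℂ) at h5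
    have h6 : Nat.card (MulAction.fixedBy Ω g) = Nat.card Ω := by exact_mod_cast h5
    apply hg
    have h7 : MulAction.fixedBy Ω g = Set.univ := by
      rw [Nat.card_coe_set_eq] at h6
      exact Set.eq_of_subset_of_ncard_le (Set.subset_univ _)
        (by rw [Set.ncard_univ]; exact le_of_eq h6.symm) (Set.toFinite _)
    refine FaithfulSMul.eq_of_smul_eq_smul (α := Ω) fun ω => ?_
    have h8 : ω ∈ MulAction.fixedBy Ω g := by rw [h7]; trivial
    rw [one_smul]
    exact h8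

end Cfsg.Agent.H393
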