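import Mathlib
import Cfsg.Agent.S0007
import Cfsg.Agent.H393.BcgrB
import Cfsg.Agent.H393.CCStep
import Cfsg.Agent.H895.Affine

/-!
# Primitive groups with a transitive normal subgroup outside which every element has exactly one
fixed point: the bound `(|G : D| + 1)^2 ≤ n`
-/

set_option autoImplicit false
set_option linter.unusedSectionVars false
set_option linter.unusedVariables false

namespace Cfsg.Agent.H393.Bcgr

open MulAction

/-- If `P` is abelian, transitive and self-normalising in `C`, then `C = P`. -/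
theorem eq_of_normalizer_le {G Ω : Type*} [Group G] [Finite G] [MulAction G Ω] [FaithfulSMul G Ω]
    [Finite Ω] {p : ℕ} [hp : Fact p.Prime] {P C : Subgroup G} (hPC : P ≤ C) (hPp : IsPGroup p P)
    (hPi : ¬ p ∣ P.relIndex C) (hPab : ∀ a ∈ P, ∀ b ∈ P, a * b = b * a)
    (hN : ∀ g ∈ C, g ∈ Subgroup.normalizer (P : Set G) → g ∈ P)
    (hPt : ∀ y z : Ω, ∃ u ∈ P, u • y = z) {a : ℕ} (hn : Nat.card Ω = p ^ a) : C = P := by
  have hQp : IsPGroup p (P.subgroupOf C) := hPp.comap_of_injective _ C.subtype_injective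
  obtain ⟨Q, hQ⟩ : ∃ Q : Sylow p C, (Q : Subgroup C) = P.subgroupOf C :=
    ⟨hQp.toSylow hPi, rfl⟩
  have hNC : Subgroup.normalizer ((Q : Subgroup C) : Set C) ≤
      Subgroup.centralizer ((Q : Subgroup C) : Set C) := by
    intro g hg
    rw [hQ] at hg ⊢
    have h1 : (g : G) ∈ Subgroup.normalizer (P : Set G) := by
      apply mem_normalizer_of
      intro u hu
      have h2 := (Subgroup.mem_normalizer_iff.1 hg ⟨u, hPC hu⟩).1 (Subgroup.mem_subgroupOf.2 hu)
      exact Subgroup.mem_subgroupOf.1 h2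
    have h2 := hN g g.2 h1
    rw [Subgroup.mem_centralizer_iff]
    intro u hu
    apply Subtype.ext
    exact hPab u hu g h2
  obtain ⟨K, hK⟩ : ∃ K : Subgroup C, K = (MonoidHom.transferSylow Q hNC).ker := ⟨_, rfl⟩
  have hKc : K.IsComplement' (Q : Subgroup C) := by
    rw [hK]; exact MonoidHom.ker_transferSylow_isComplement' Q hNC
  have hKn : K.Normal := by rw [hK]; infer_instance
  have hcard := hKc.card_mul_card
  have hKp : ¬ p ∣ Nat.card K := by
    have h1 := (Q : Subgroup C).card_mul_index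
    have h2 : Nat.card K = (Q : Subgroup C).index :=
      Nat.eq_of_mul_eq_mul_right (m := Nat.card (Q : Subgroup C)) Nat.card_pos
        (by rw [hcard, ← h1, mul_comm])
    rw [h2]
    exact Q.not_dvd_index
  have hCt : IsPretransitive C Ω := by
    refine ⟨fun y z => ?_⟩
    obtain ⟨u, hu, huy⟩ := hPt y z
    exact ⟨⟨u, hPC hu⟩, huy⟩
  have hKfix : ∀ k ∈ K, ∀ x : Ω, k • x = x := by
    intro k hk x
    have h1 : IsBlock C (orbit K x) := IsBlock.orbit_of_normal x
    have h2 := h1.ncard_dvd_card ⟨x, mem_orbit_self x⟩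
    rw [hn] at h2
    have h3 : (orbit K x).ncard ∣ Nat.card K := by
      rw [← index_stabilizer]
      exact Subgroup.index_dvd_card _
    have h4 : (orbit K x).ncard = 1 := by
      refine Nat.Coprime.eq_one_of_dvd ?_ h2
      exact Nat.Coprime.of_dvd_left h3
        (Nat.Coprime.pow_right a ((Nat.Prime.coprime_iff_not_dvd hp.out).2 hKp).symm)
    obtain ⟨y, hy⟩ := Set.ncard_eq_one.1 h4
    have h5 : x ∈ orbit K x := mem_orbit_self x
    have h6 : k • x ∈ orbit K x := ⟨⟨k, hk⟩, rfl⟩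
    rw [hy, Set.mem_singleton_iff] at h5 h6
    rw [h6, ← h5]
  have hK1 : K = ⊥ := by
    rw [eq_bot_iff]
    intro k hk
    rw [Subgroup.mem_bot]
    refine FaithfulSMul.eq_of_smul_eq_smul (α := Ω) fun x => ?_
    rw [one_smul]
    exact hKfix k hk x
  rw [hK1, Subgroup.card_bot, one_mul, hQ] at hcard
  have h1 : P.subgroupOf C = ⊤ := Subgroup.eq_top_of_card_eq _ hcard
  exact le_antisymm (Subgroup.subgroupOf_eq_top.1 h1) hPC

theorem arith {e m n : ℕ} (he : 2 ≤ e) (hm : 2 ≤ m) (h1 : n < (e + 1) ^ 2) (h2 : e * m ≤ n - 1)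
    (hn : 1 ≤ n) : (m - 1) ^ 2 < n := by
  by_contra hc
  push Not at hc
  obtain ⟨b, rfl⟩ : ∃ b, m = b + 1 := ⟨m - 1, by omega⟩
  rw [Nat.add_sub_cancel] at hc
  have h3 : e * b + e + 1 ≤ n := by
    have : e * (b + 1) = e * b + e := by ring
    omega
  have h4 : (e + 1) ^ 2 = e * e + 2 * e + 1 := by ring
  have h5 : b ≤ e := by
    by_contra h
    push Not at h
    have h6 : e * (e + 1) ≤ e * b := Nat.mul_le_mul_left e h
    have h7 : e * (e + 1) = e * e + e := by ring
    omega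
  have h6 : b * b ≤ e * b := Nat.mul_le_mul_right b h5
  have h7 : b ^ 2 = b * b := by ring
  omega

/-- **The BCGR bound.** -/
theorem bcgr {G Ω : Type*} [Group G] [Finite G] [MulAction G Ω] [FaithfulSMul G Ω] [Finite Ω]
    (hprim : IsPreprimitive G Ω) (D : Subgroup G) (hDn : D.Normal) (hDt : IsPretransitive D Ω)
    (hD : ∀ g : G, g ∉ D → Nat.card (fixedBy Ω g) = 1)
    (hnF : ∃ g : G, g ≠ 1 ∧ 1 < Nat.card (fixedBy Ω g)) : (D.index + 1) ^ 2 ≤ Nat.card Ω := by
  classical
  by_contra hlt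
  push Not at hlt
  obtain ⟨g₀, hg₀1, hg₀⟩ := hnF
  rw [Finite.one_lt_card_iff_nontrivial] at hg₀
  obtain ⟨⟨α₀, hα₀⟩, ⟨β₀, hβ₀⟩, hαβ⟩ := hg₀
  have hαβ' : α₀ ≠ β₀ := fun h => hαβ (Subtype.ext h)
  rw [mem_fixedBy] at hα₀ hβ₀
  have hne : Nonempty Ω := ⟨α₀⟩
  have hgD : g₀ ∈ D := two_fixed hD hαβ' hα₀ hβ₀
  -- `n ≥ 4`
  have hn4 : 4 ≤ Nat.card Ω := by
    obtain ⟨c, hc⟩ : ∃ c : Ω, g₀ • c ≠ c := by
      by_contra h
      push Not at h
      apply hg₀1
      refine FaithfulSMul.eq_of_smul_eq_smul (α := Ω) fun x => ?_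
      rw [one_smul]; exact h x
    have h1 : c ≠ α₀ := by rintro rfl; exact hc hα₀
    have h2 : c ≠ β₀ := by rintro rfl; exact hc hβ₀
    have h3 : g₀ • c ≠ α₀ := by
      intro h
      apply h1
      rw [← hα₀] at h
      exact MulAction.injective g₀ h
    have h4 : g₀ • c ≠ β₀ := by
      intro h
      apply h2
      rw [← hβ₀] at h
      exact MulAction.injective g₀ h
    have h5 : ({α₀, β₀, c, g₀ • c} : Set Ω).ncard = 4 := by
      rw [Set.ncard_insert_of_notMem, Set.ncard_insert_of_notMem, Set.ncard_pair]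
      · exact hc.symm
      · simp [h2.symm, h4.symm]
      · simp [hαβ', h1.symm, h3.symm]
    rw [← h5, ← Set.ncard_univ]
    exact Set.ncard_le_ncard (Set.subset_univ _) (Set.toFinite _)
  have hidx0 : 0 < D.index := Nat.pos_of_ne_zero Subgroup.FiniteIndex.index_ne_zero
  have he2 : 2 ≤ D.index := by
    by_contra h
    have h1 : D.index = 1 := by omega
    rw [h1] at hlt
    omega
  -- `n` is a power of a prime
  obtain ⟨p, hp, hpn⟩ := Nat.exists_prime_and_dvd (n := Nat.card Ω) (by omega)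
  have hpf : Fact p.Prime := ⟨hp⟩
  obtain ⟨b, hb1, hb2⟩ := step_one D hDt hD hp hpn
  obtain ⟨a, ha⟩ : ∃ a, Nat.card Ω = p ^ a := by
    refine ⟨_, Nat.eq_prime_pow_of_unique_prime_dvd (by omega) ?_⟩
    intro q hq hqn
    by_contra hqp
    obtain ⟨c, hc1, hc2⟩ := step_one D hDt hD hq hqn
    have h1 : (p ^ b).Coprime (q ^ c) :=
      Nat.Coprime.pow _ _ ((Nat.coprime_primes hp hq).2 (fun h => hqp h.symm))
    have h2 := Nat.le_of_dvd (by omega) (h1.mul_dvd_of_dvd_of_dvd hb1 hc1)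
    have h3 : (D.index + 1) ^ 2 ≤ p ^ b * q ^ c := by
      rw [pow_two]; exact Nat.mul_le_mul hb2 hc2
    omega
  have hDt' : ∀ y z : Ω, ∃ d ∈ D, d • y = z := by
    intro y z
    obtain ⟨d, hd⟩ := hDt.exists_smul_eq y z
    exact ⟨d, d.2, hd⟩
  -- the Sylow subgroup
  obtain ⟨P, hPD, hPp, hPi⟩ := exists_syl p D
  have hPt : ∀ y z : Ω, ∃ u ∈ P, u • y = z := by
    intro y z
    obtain ⟨d, hd⟩ := hDt.exists_smul_eq y z
    have h1 : (P.subgroupOf D).index.Coprime (stabilizer D y).index := by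
      rw [index_stabilizer_of_transitive, ha]
      exact Nat.Coprime.pow_right a ((Nat.Prime.coprime_iff_not_dvd hp).2 hPi).symm
    obtain ⟨u, hu, h, hh, hd'⟩ := S0007.exists_mul_eq _ _ h1 d
    refine ⟨u, Subgroup.mem_subgroupOf.1 hu, ?_⟩
    rw [← hd, hd', mul_smul, mem_stabilizer_iff.1 hh]
    rfl
  -- the normaliser
  obtain ⟨M, hM⟩ : ∃ M : Subgroup G, M = Subgroup.normalizer (P : Set G) := ⟨_, rfl⟩
  have hPM : P ≤ M := by rw [hM]; exact Subgroup.le_normalizer
  have hMP : ∀ g ∈ M, ∀ u ∈ P, g * u * g⁻¹ ∈ P := by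
    intro g hg u hu
    rw [hM] at hg
    exact (Subgroup.mem_normalizer_iff.1 hg u).1 hu
  have hFr : ∀ g : G, ∃ d ∈ D, d * g ∈ M := by
    intro g
    obtain ⟨h, hh, hhc⟩ := syl_conj (H := D) (P := P) (Q := P.map (MulAut.conj g).toMonoidHom)
      hPD hPi (by
        rintro _ ⟨u, hu, rfl⟩
        exact hDn.conj_mem u (hPD hu) g) (hPp.map _)
    refine ⟨h⁻¹, D.inv_mem hh, ?_⟩
    rw [hM]
    apply mem_normalizer_of
    intro u hu
    have h3 := hhc _ ⟨u, hu, rfl⟩
    have e : h⁻¹ * (MulAut.conj g).toMonoidHom u * h = h⁻¹ * g * u * (h⁻¹ * g)⁻¹ := by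
      show h⁻¹ * (g * u * g⁻¹) * h = _
      group
    rwa [e] at h3
  have hidx : ∀ Y : Subgroup G, (∀ g : G, ∃ d ∈ D, d * g ∈ Y) →
      (D.subgroupOf Y).index = D.index := by
    intro Y hY
    have h1 : D ⊔ Y = ⊤ := by
      rw [Subgroup.eq_top_iff']
      intro g
      obtain ⟨d, hd, hdg⟩ := hY g
      have e : g = d⁻¹ * (d * g) := by group
      rw [e]
      exact mul_mem (Subgroup.mem_sup_left (inv_mem hd)) (Subgroup.mem_sup_right hdg)
    have h2 := Subgroup.relIndex_sup_left Y D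
    rw [h1, Subgroup.relIndex_top_right] at h2
    exact h2.symm
  have hMt : IsPretransitive M Ω := by
    refine ⟨fun y z => ?_⟩
    obtain ⟨u, hu, huy⟩ := hPt y z
    exact ⟨⟨u, hPM hu⟩, huy⟩
  have hMprim : IsPreprimitive M Ω := by
    by_contra hc
    have hn : (D.subgroupOf M).Normal := hDn.comap _
    have h1 := imprimitive_bound hMt hc (D.subgroupOf M) (fun g hg => by
      have h2 := hD g (fun hc => hg (Subgroup.mem_subgroupOf.2 hc))
      rw [← h2]
      rfl)
    rw [hidx M hFr] at h1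
    omega
  -- the centre of `P`
  have hPnt : Nontrivial P := by
    have h1 : 1 < Nat.card Ω := by omega
    rw [Finite.one_lt_card_iff_nontrivial] at h1
    obtain ⟨y, z, hyz⟩ := h1
    obtain ⟨u, hu, huy⟩ := hPt y z
    refine ⟨⟨⟨u, hu⟩, 1, fun hc => hyz ?_⟩⟩
    have : u = 1 := congrArg Subtype.val hc
    rw [← huy, this, one_smul]
  obtain ⟨Z, hZ⟩ : ∃ Z : Subgroup G, Z = (Subgroup.center P).map P.subtype := ⟨_, rfl⟩
  have hZmem : ∀ z, z ∈ Z ↔ z ∈ P ∧ ∀ u ∈ P, u * z = z * u := by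
    intro z
    rw [hZ]
    constructor
    · rintro ⟨w, hw, rfl⟩
      refine ⟨w.2, fun u hu => ?_⟩
      have := Subgroup.mem_center_iff.1 hw ⟨u, hu⟩
      exact congrArg Subtype.val this
    · rintro ⟨h1, h2⟩
      refine ⟨⟨z, h1⟩, Subgroup.mem_center_iff.2 fun u => Subtype.ext (h2 u u.2), rfl⟩
  have hZn : (Z.subgroupOf M).Normal := by
    constructor
    intro z hz g
    rw [Subgroup.mem_subgroupOf] at hz ⊢
    rw [hZmem] at hz ⊢
    refine ⟨hMP g g.2 z hz.1, fun u hu => ?_⟩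
    have h1 : (g : G)⁻¹ * u * g ∈ P := by
      have := hMP _ (M.inv_mem g.2) u hu
      rwa [inv_inv] at this
    have h2 := hz.2 _ h1
    have e1 : u * ((g : G) * (z : G) * (g : G)⁻¹) = g * ((g : G)⁻¹ * u * g * z) * (g : G)⁻¹ := by
      group
    have e2 : ((g : G) * (z : G) * (g : G)⁻¹) * u = g * (z * ((g : G)⁻¹ * u * g)) * (g : G)⁻¹ := by
      group
    show u * ((g : G) * (z : G) * (g : G)⁻¹) = ((g : G) * (z : G) * (g : G)⁻¹) * u
    rw [e1, e2, h2]
  have hZne : ∃ z ∈ Z, z ≠ 1 := by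
    have h1 := hPp.center_nontrivial
    obtain ⟨w, hw⟩ := exists_ne (1 : Subgroup.center P)
    refine ⟨w.1, (hZmem _).2 ⟨w.1.2, fun u hu => ?_⟩, fun hc => hw ?_⟩
    · exact congrArg Subtype.val (Subgroup.mem_center_iff.1 w.2 ⟨u, hu⟩)
    · exact Subtype.ext (Subtype.ext hc)
  have hZP : Z ≤ P := fun z hz => ((hZmem z).1 hz).1
  have hZt : ∀ y z : Ω, ∃ u ∈ Z, u • y = z := by
    have h1 : IsPretransitive (Z.subgroupOf M) Ω := by
      refine IsQuasiPreprimitive.isPretransitive_of_normal (G := M) ?_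
      intro hc
      obtain ⟨z, hz, hz1⟩ := hZne
      apply hz1
      refine FaithfulSMul.eq_of_smul_eq_smul (α := Ω) fun y => ?_
      have h2 : y ∈ fixedPoints (Z.subgroupOf M) Ω := by rw [hc]; trivial
      rw [one_smul]
      exact h2 ⟨⟨z, hPM (hZP hz)⟩, Subgroup.mem_subgroupOf.2 hz⟩
    intro y z
    obtain ⟨u, hu⟩ := h1.exists_smul_eq y z
    exact ⟨u, Subgroup.mem_subgroupOf.1 u.2, hu⟩
  -- an element of `P` fixing a point is trivial
  have hreg : ∀ u ∈ P, ∀ y : Ω, u • y = y → u = 1 := by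
    intro u hu y huy
    refine FaithfulSMul.eq_of_smul_eq_smul (α := Ω) fun w => ?_
    obtain ⟨z, hz, rfl⟩ := hZt y w
    rw [one_smul, ← mul_smul, ((hZmem z).1 hz).2 u hu, mul_smul, huy]
  have hPZ : P ≤ Z := by
    intro u hu
    obtain ⟨z, hz, hzu⟩ := hZt α₀ (u • α₀)
    have h1 : z⁻¹ * u = 1 := by
      refine hreg _ (P.mul_mem (P.inv_mem (hZP hz)) hu) α₀ ?_
      rw [mul_smul, ← hzu, inv_smul_smul]
    rw [inv_mul_eq_one] at h1
    rw [← h1]; exact hz
  have hPab : ∀ u ∈ P, ∀ v ∈ P, u * v = v * u := fun u hu v hv => ((hZmem v).1 (hPZ hv)).2 u hu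
  have hPcard : Nat.card P = Nat.card Ω := by
    refine Nat.card_congr (Equiv.ofBijective (fun u : P => (u : G) • α₀) ⟨?_, ?_⟩)
    · intro u v huv
      have h1 : (v : G)⁻¹ * u = 1 := by
        refine hreg _ (P.mul_mem (P.inv_mem v.2) u.2) α₀ ?_
        rw [mul_smul]
        show (v : G)⁻¹ • (u : G) • α₀ = α₀
        rw [show (u : G) • α₀ = (v : G) • α₀ from huv, inv_smul_smul]
      rw [inv_mul_eq_one] at h1
      exact Subtype.ext h1.symm
    · intro w
      obtain ⟨u, hu, huw⟩ := hPt α₀ w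
      exact ⟨⟨u, hu⟩, huw⟩
  -- the complement
  obtain ⟨H, hH⟩ : ∃ H : Subgroup G, H = M ⊓ stabilizer G α₀ := ⟨_, rfl⟩
  have hHM : H ≤ M := by rw [hH]; exact inf_le_left
  have hHx : ∀ h ∈ H, h • α₀ = α₀ := by
    intro h hh
    rw [hH] at hh
    exact (Subgroup.mem_inf.1 hh).2
  have hMdec : ∀ g ∈ M, ∃ u ∈ P, ∃ h ∈ H, g = u * h := by
    intro g hg
    obtain ⟨u, hu, hug⟩ := hPt α₀ (g • α₀)
    refine ⟨u, hu, u⁻¹ * g, ?_, by group⟩
    rw [hH]
    refine Subgroup.mem_inf.2 ⟨M.mul_mem (M.inv_mem (hPM hu)) hg, ?_⟩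
    rw [mem_stabilizer_iff, mul_smul, ← hug, inv_smul_smul]
  have hHD : ∀ g : G, ∃ d ∈ D, d * g ∈ H := by
    intro g
    obtain ⟨d, hd, hdg⟩ := hFr g
    obtain ⟨u, hu, h, hh, huh⟩ := hMdec _ hdg
    refine ⟨u⁻¹ * d, D.mul_mem (D.inv_mem (hPD hu)) hd, ?_⟩
    rw [mul_assoc, huh, inv_mul_cancel_left]
    exact hh
  -- semiregularity
  have hcomm : ∀ h ∈ H, ∀ v ∈ P, h * v * h⁻¹ = v → h • v • α₀ = v • α₀ := by
    intro h hh v hv hc
    have e : h * v = v * h := by rw [mul_inv_eq_iff_eq_mul] at hc; exact hc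
    rw [← mul_smul, e, mul_smul, hHx h hh]
  have hFF : ∀ h ∈ H, h ≠ 1 → ∀ v ∈ P, h * v * h⁻¹ = v → v = 1 := by
    by_contra hc
    push Not at hc
    obtain ⟨r, hr, hr1, v, hv, hrv, hv1⟩ := hc
    let cg : CommGroup P :=
      { (inferInstance : Group P) with
        mul_comm := fun u v => Subtype.ext (hPab u u.2 v v.2) }
    let φ : H →* MulAut P := (Subgroup.normalizerMonoidHom P).comp
      (Subgroup.inclusion (by rw [← hM]; exact hHM : H ≤ Subgroup.normalizer (P : Set G)))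
    let act : MulDistribMulAction H P := MulDistribMulAction.compHom P φ
    have hact : ∀ (h : H) (v : P), ((h • v : P) : G) = (h : G) * v * (h : G)⁻¹ := fun h v => rfl
    have hfa : FaithfulSMul H P := by
      refine ⟨fun {h k} hhk => ?_⟩
      have h1 : ∀ v ∈ P, ((k : G)⁻¹ * h) * v * ((k : G)⁻¹ * h)⁻¹ = v := by
        intro v hv
        have h2 := congrArg Subtype.val (hhk ⟨v, hv⟩)
        rw [hact, hact] at h2
        have e : ((k : G)⁻¹ * h) * v * ((k : G)⁻¹ * h)⁻¹ =
            (k : G)⁻¹ * ((h : G) * v * (h : G)⁻¹) * k := by group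
        rw [e]
        show (k : G)⁻¹ * ((h : G) * ((⟨v, hv⟩ : P) : G) * (h : G)⁻¹) * k = v
        rw [h2]
        group
      have h3 : (k : G)⁻¹ * h ∈ H := H.mul_mem (H.inv_mem k.2) h.2
      have h4 : (k : G)⁻¹ * h = 1 := by
        refine FaithfulSMul.eq_of_smul_eq_smul (α := Ω) fun w => ?_
        obtain ⟨u, hu, rfl⟩ := hPt α₀ w
        rw [one_smul]
        exact hcomm _ h3 u hu (h1 u hu)
      rw [inv_mul_eq_one] at h4
      exact Subtype.ext h4.symm
    have h5 := Cfsg.Agent.H895.affine_bound (V := P) (H := H) hp ⟨a, by rw [hPcard, ha]⟩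
      (D.subgroupOf H) (hDn.comap _) (by
        intro h hh w hw
        have h6 : (h : G) ∉ D := fun hc => hh (Subgroup.mem_subgroupOf.2 hc)
        have h7 : (h : G) * w * (h : G)⁻¹ = w := by
          rw [← hact]; exact congrArg Subtype.val hw
        have h8 := hcomm h h.2 w w.2 h7
        by_contra hw1
        apply h6
        refine two_fixed hD ?_ h8 (hHx h h.2)
        intro hc
        exact hw1 (Subtype.ext (hreg w w.2 α₀ hc))) ⟨⟨r, hr⟩, fun hc => hr1 (congrArg Subtype.val hc),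
          ⟨v, hv⟩, fun hc => hv1 (congrArg Subtype.val hc), Subtype.ext hrv⟩
    rw [hidx H hHD, hPcard] at h5
    omega
  have hNC : ∀ C : Subgroup G, P ≤ C → C ≤ D →
      (∀ g ∈ C, g ∈ Subgroup.normalizer (P : Set G) → g ∈ P) → C = P := by
    intro C hPC hCD hN
    refine eq_of_normalizer_le hPC hPp (fun hc => hPi ?_) hPab hN hPt ha
    rw [← Subgroup.relIndex_mul_relIndex P C D hPC hCD]
    exact hc.mul_right _
  -- centralisers
  have hCC : ∀ z ∈ P, z ≠ 1 → D ⊓ Subgroup.centralizer ({z} : Set G) = P := by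
    intro z hz hz1
    refine hNC _ (le_inf hPD ?_) inf_le_left ?_
    · intro u hu
      rw [Subgroup.mem_centralizer_singleton_iff]
      exact hPab u hu z hz
    · intro g hg hgM
      rw [← hM] at hgM
      obtain ⟨u, hu, h, hh, rfl⟩ := hMdec g hgM
      have h1 := (Subgroup.mem_inf.1 hg).2
      rw [Subgroup.mem_centralizer_singleton_iff] at h1
      have h2 : h * z * h⁻¹ = z := by
        have h3 : u * z = z * u := hPab u hu z hz
        have h4 : u * (h * z) = u * (z * h) := by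
          rw [← mul_assoc, h1, ← mul_assoc, ← mul_assoc, h3]
        have h5 := mul_left_cancel h4
        rw [h5, mul_inv_cancel_right]
      by_cases hh1 : h = 1
      · rw [hh1, mul_one]; exact hu
      · exact absurd (hFF h hh hh1 z hz h2) hz1
  -- `D ∩ H ≠ 1`
  have hDH : D ⊓ H ≠ ⊥ := by
    intro hc
    have h1 : D = P := by
      refine hNC D hPD le_rfl ?_
      intro g hg hgM
      rw [← hM] at hgM
      obtain ⟨u, hu, h, hh, rfl⟩ := hMdec g hgM
      have h2 : h ∈ D ⊓ H := by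
        refine Subgroup.mem_inf.2 ⟨?_, hh⟩
        have := D.mul_mem (D.inv_mem (hPD hu)) hg
        rwa [inv_mul_cancel_left] at this
      rw [hc, Subgroup.mem_bot] at h2
      rw [h2, mul_one]; exact hu
    rw [h1] at hgD
    exact hg₀1 (hreg g₀ hgD α₀ hα₀)
  -- the number `m`
  obtain ⟨m, hm⟩ : ∃ m, m = Nat.card (D ⊓ H : Subgroup G) := ⟨_, rfl⟩
  have hm2 : 2 ≤ m := by
    have h1 := (Subgroup.one_lt_card_iff_ne_bot _).2 hDH
    omega
  have hHcard : D.index * m = Nat.card H := by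
    have h1 := (D.subgroupOf H).card_mul_index
    rw [hidx H hHD, mul_comm] at h1
    rw [← h1, hm]
    congr 1
    refine Nat.card_congr
      { toFun := fun g => ⟨⟨g.1, (Subgroup.mem_inf.1 g.2).2⟩, (Subgroup.mem_inf.1 g.2).1⟩
        invFun := fun g => ⟨g.1.1, Subgroup.mem_inf.2 ⟨g.2, g.1.2⟩⟩
        left_inv := fun g => rfl
        right_inv := fun g => rfl }
  have hHle : Nat.card H ≤ Nat.card Ω - 1 := by
    obtain ⟨v, hv⟩ := exists_ne (1 : P)
    have h1 : Nat.card H ≤ Nat.card {w : P // w ≠ 1} := by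
      refine Nat.card_le_card_of_injective
        (fun h : H => (⟨⟨(h : G) * v * (h : G)⁻¹, hMP h (hHM h.2) v v.2⟩, ?_⟩ : {w : P // w ≠ 1})) ?_
      · intro hc
        apply hv
        apply Subtype.ext
        have h2 : (h : G) * v * (h : G)⁻¹ = 1 := congrArg Subtype.val hc
        have e : (v : G) = (h : G)⁻¹ * ((h : G) * v * (h : G)⁻¹) * h := by group
        rw [e, h2]
        simp
      · intro h k hhk
        have h2 : (h : G) * v * (h : G)⁻¹ = (k : G) * v * (k : G)⁻¹ :=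
          congrArg (fun q : {w : P // w ≠ 1} => ((q.1 : P) : G)) hhk
        have h3 : ((k : G)⁻¹ * h) * v * ((k : G)⁻¹ * h)⁻¹ = v := by
          have e : ((k : G)⁻¹ * h) * v * ((k : G)⁻¹ * h)⁻¹ =
              (k : G)⁻¹ * ((h : G) * v * (h : G)⁻¹) * k := by group
          rw [e, h2]
          group
        have h4 : (k : G)⁻¹ * h ∈ H := H.mul_mem (H.inv_mem k.2) h.2
        by_contra hne
        have h5 : (k : G)⁻¹ * h ≠ 1 := by
          intro hc
          rw [inv_mul_eq_one] at hc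
          exact hne (Subtype.ext hc.symm)
        exact hv (Subtype.ext (hFF _ h4 h5 v v.2 h3))
    have h2 : Nat.card {w : P // w ≠ 1} = Nat.card Ω - 1 := by
      rw [← hPcard]
      have := Fintype.ofFinite P
      rw [Nat.card_eq_fintype_card, Nat.card_eq_fintype_card, Fintype.card_subtype_compl]
      simp
    omega
  have hmn : (m - 1) ^ 2 < Nat.card P := by
    rw [hPcard]
    exact arith he2 hm2 hlt (by rw [hHcard]; exact hHle) (by omega)
  -- not doubly transitive
  have h2t : ¬ IsMultiplyPretransitive D Ω 2 := by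
    intro hc
    rw [is_two_pretransitive_iff] at hc
    obtain ⟨g, hg⟩ : ∃ g : G, g ∉ D := by
      by_contra h
      push Not at h
      have : D = ⊤ := (Subgroup.eq_top_iff' D).2 h
      rw [this, Subgroup.index_top] at he2
      omega
    have h1 := hD g hg
    rw [Nat.card_eq_one_iff_unique] at h1
    obtain ⟨-, ⟨x, hx⟩⟩ := h1
    rw [mem_fixedBy] at hx
    obtain ⟨y, hy⟩ : ∃ y : Ω, y ≠ x := by
      have h1 : 1 < Nat.card Ω := by omega
      rw [Finite.one_lt_card_iff_nontrivial] at h1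
      exact exists_ne x
    have hgy : g • y ≠ x := by
      intro h
      rw [← hx] at h
      exact hy (MulAction.injective g h)
    obtain ⟨d, hd1, hd2⟩ := hc hy.symm hgy.symm
    have hd1' : (d : G) • x = x := hd1
    have hd2' : (d : G) • y = g • y := hd2
    apply hg
    have h3 : (d : G)⁻¹ * g ∈ D := by
      refine two_fixed hD hy ?_ ?_
      · rw [mul_smul, ← hd2', inv_smul_smul]
      · rw [mul_smul, hx, inv_smul_eq_iff, hd1']
    have := D.mul_mem d.2 h3
    rwa [mul_inv_cancel_left] at this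
  -- conclusion
  have hfin := cc_step (D := D) (Ω := Ω) hDt h2t (P.subgroupOf D) α₀ (by
      refine Subgroup.isComplement'_of_card_mul_and_disjoint ?_ ?_
      · rw [Nat.card_congr (Subgroup.subgroupOfEquivOfLe hPD).toEquiv, hPcard]
        have h1 := (stabilizer D α₀).card_mul_index
        rw [index_stabilizer_of_transitive, mul_comm] at h1
        exact h1
      · rw [Subgroup.disjoint_def]
        intro u hu hux
        exact Subtype.ext (hreg u hu α₀ hux)) (by
      intro z hz hz1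
      have h1 := hCC z hz (fun hc => hz1 (Subtype.ext hc))
      ext g
      rw [Subgroup.mem_centralizer_singleton_iff, Subgroup.mem_subgroupOf]
      constructor
      · intro hg
        rw [← h1]
        refine Subgroup.mem_inf.2 ⟨g.2, ?_⟩
        rw [Subgroup.mem_centralizer_singleton_iff]
        exact congrArg Subtype.val hg
      · intro hg
        exact Subtype.ext (hPab g hg z hz)) m (by
      have h1 : Nat.card (P.subgroupOf D) = Nat.card P :=
        Nat.card_congr (Subgroup.subgroupOfEquivOfLe hPD).toEquiv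
      rw [h1, hm]
      have hmemN : ∀ g : D, g ∈ Subgroup.normalizer ((P.subgroupOf D : Subgroup D) : Set D) ↔
          (g : G) ∈ M := by
        intro g
        constructor
        · intro hg
          rw [hM]
          apply mem_normalizer_of
          intro u hu
          have h2 := (Subgroup.mem_normalizer_iff.1 hg ⟨u, hPD hu⟩).1 (Subgroup.mem_subgroupOf.2 hu)
          exact Subgroup.mem_subgroupOf.1 h2
        · intro hg
          apply mem_normalizer_of
          intro u hu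
          exact hMP g hg u hu
      rw [← Nat.card_prod]
      refine Nat.card_congr (Equiv.ofBijective (fun q : P × (D ⊓ H : Subgroup G) =>
        (⟨⟨(q.1 : G) * q.2, D.mul_mem (hPD q.1.2) (Subgroup.mem_inf.1 q.2.2).1⟩,
          (hmemN _).2 (M.mul_mem (hPM q.1.2) (hHM (Subgroup.mem_inf.1 q.2.2).2))⟩ :
          Subgroup.normalizer ((P.subgroupOf D : Subgroup D) : Set D))) ⟨?_, ?_⟩).symm
      · rintro ⟨u, h⟩ ⟨v, k⟩ huv
        have h2 : (u : G) * h = v * k :=
          congrArg (fun q : Subgroup.normalizer ((P.subgroupOf D : Subgroup D) : Set D) =>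
            ((q.1 : D) : G)) huv
        have h3 : (v : G)⁻¹ * u = 1 := by
          refine hreg _ (P.mul_mem (P.inv_mem v.2) u.2) α₀ ?_
          have h4 : (v : G)⁻¹ * u = k * (h : G)⁻¹ := by
            rw [inv_mul_eq_iff_eq_mul, ← mul_assoc, ← h2, mul_inv_cancel_right]
          have h5 := hHx h (Subgroup.mem_inf.1 h.2).2
          rw [h4, mul_smul, inv_smul_eq_iff.2 h5.symm, hHx k (Subgroup.mem_inf.1 k.2).2]
        rw [inv_mul_eq_one] at h3
        have h4 : (h : G) = k := by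
          rw [h3] at h2
          exact mul_left_cancel h2
        rw [Prod.mk.injEq]
        exact ⟨Subtype.ext h3.symm, Subtype.ext h4⟩
      · intro g
        obtain ⟨u, hu, h, hh, hgu⟩ := hMdec _ ((hmemN g.1).1 g.2)
        have h2 : h ∈ D := by
          have := D.mul_mem (D.inv_mem (hPD hu)) g.1.2
          rwa [hgu, inv_mul_cancel_left] at this
        exact ⟨(⟨u, hu⟩, ⟨h, Subgroup.mem_inf.2 ⟨h2, hh⟩⟩), Subtype.ext (Subtype.ext hgu.symm)⟩)
    hm2 (by
      rw [Nat.card_congr (Subgroup.subgroupOfEquivOfLe hPD).toEquiv]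
      exact hmn) ⟨g₀, hgD⟩ (fun hc => hg₀1 (congrArg Subtype.val hc))
  rw [Finite.card_le_one_iff_subsingleton] at hfin
  apply hαβ
  have h1 : (⟨α₀, hα₀⟩ : fixedBy Ω (⟨g₀, hgD⟩ : D)) = ⟨β₀, hβ₀⟩ := Subsingleton.elim _ _
  exact Subtype.ext (congrArg (fun q : fixedBy Ω (⟨g₀, hgD⟩ : D) => (q : Ω)) h1)

end Cfsg.Agent.H393.Bcgr
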