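import Cfsg.Agent.H583.ImcTh
import Cfsg.Agent.H718.NB.Th5
import Cfsg.Agent.H513.AbTh
import Cfsg.Agent.H49.ThFiveDat
import Cfsg.Agent.H49.ThFiveGlob
import Cfsg.Agent.H164.ThFiveRow

/-!
# `IMC p` for the Thompson group (helper393; `p = 2` and the primes with `p ^ 3 ∤ |Th|`: helper583)

* `imc_th_five` : a character of defect zero (`Th5.exists_degree`).
* `noCent_th_three` : no element of order prime to 3 centralises a Sylow 3-subgroup.
* `imc_th_of` : the row, from `IMC 2` and `NB 3`.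
-/

set_option autoImplicit false

open Cfsg

namespace Cfsg.Agent.H393.ImcTh

open Cfsg.Agent.H625.SylConst Subgroup

universe u

theorem prime_cases {p n : ℕ} (hp : p.Prime) (k : ℕ) (h : p ∣ n)
    (hn : n ∣ ([2, 3, 5, 7, 13, 19, 31] : List ℕ).prod ^ k) : p ∈ ([2, 3, 5, 7, 13, 19, 31] : List ℕ) := by
  have h1 : p ∣ ([2, 3, 5, 7, 13, 19, 31] : List ℕ).prod := hp.dvd_of_dvd_pow (h.trans hn)
  obtain ⟨q, hq, hpq⟩ := (Nat.Prime.prime hp).dvd_prod_iff.1 h1
  have hl : ∀ q ∈ ([2, 3, 5, 7, 13, 19, 31] : List ℕ), q.Prime := by decide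
  rwa [(Nat.prime_dvd_prime_iff_eq hp (hl q hq)).1 hpq]

theorem fin_th : Finite Spor.Th := Cfsg.Agent.KFacts.Th.Main.finite

theorem imc_th_five {S : Type u} [Group S] [Finite S] [Fact (Nat.Prime 5)] (h : Spor.IsoTh S) : IMC 5 S := by
  obtain ⟨e⟩ := h
  have := fin_th
  obtain ⟨χ, d, hχ⟩ := Cfsg.Agent.H718.NB.Th5.exists_degree
  have hc : Nat.card Spor.Th = 5 ^ 3 * 725967551102976 := by rw [Cfsg.Agent.S1700.result.2]; norm_num
  refine IMC.of_equiv e (IMC.of_defect_zero (by rw [hc]; exact (dvd_pow_self 5 (by norm_num)).mul_right _) χ ?_)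
  have h5 : Nat.Prime 5 := Fact.out
  have hf : (Nat.card Spor.Th).factorization 5 = 3 := by
    rw [hc, Nat.factorization_mul (by norm_num) (by norm_num), Finsupp.add_apply, Nat.Prime.factorization_pow h5,
      Finsupp.single_eq_same, Nat.factorization_eq_zero_of_not_dvd (by norm_num)]
  rw [hf, hχ]
  exact Dvd.intro (247 * d) (by ring)

theorem card_five {x : Spor.Th} (hx : orderOf x = 5) : Nat.card (centralizer ({x} : Set Spor.Th)) = 3000 := by
  obtain ⟨hfin, a, b, z, t, D⟩ := Cfsg.Agent.H49.ThFive.exists_dat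
  obtain ⟨g, hg⟩ := isConj_iff.1 (Cfsg.Agent.H164.ThFiveRow.isConj_five D.oz hx)
  rw [← D.card_C, ← hg]
  have h1 : centralizer ({g * z * g⁻¹} : Set Spor.Th) = (centralizer ({z} : Set Spor.Th)).map (MulAut.conj g).toMonoidHom := by
    ext w
    rw [mem_centralizer_singleton_iff, mem_map]
    constructor
    · intro hw
      refine ⟨g⁻¹ * w * g, ?_, by simp [mul_assoc]⟩
      rw [mem_centralizer_singleton_iff]
      calc g⁻¹ * w * g * z = g⁻¹ * (w * (g * z * g⁻¹)) * g := by group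
        _ = g⁻¹ * (g * z * g⁻¹ * w) * g := by rw [hw]
        _ = z * (g⁻¹ * w * g) := by group
    · rintro ⟨v, hv, rfl⟩
      rw [mem_centralizer_singleton_iff] at hv
      change g * v * g⁻¹ * (g * z * g⁻¹) = g * z * g⁻¹ * (g * v * g⁻¹)
      calc g * v * g⁻¹ * (g * z * g⁻¹) = g * (v * z) * g⁻¹ := by group
        _ = g * (z * v) * g⁻¹ := by rw [hv]
        _ = _ := by group
  rw [h1, card_map_of_injective (MulAut.conj g).injective]

theorem fact_three : (Nat.card Spor.Th).factorization 3 = 10 := by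
  have h3 : Nat.Prime 3 := by norm_num
  rw [Cfsg.Agent.S1700.result.2, show (90745943887872000 : ℕ) = 3 ^ 10 * 1536790528000 by norm_num,
    Nat.factorization_mul (by norm_num) (by norm_num), Finsupp.add_apply, Nat.Prime.factorization_pow h3,
      Finsupp.single_eq_same, Nat.factorization_eq_zero_of_not_dvd (by norm_num)]

theorem noCent_th_three : Cfsg.Agent.H661.SC.NoCent 3 Spor.Th := by
  have := fin_th
  have h3 : Fact (Nat.Prime 3) := ⟨by norm_num⟩
  refine Cfsg.Agent.H661.SC.noCent_of_elements fun ℓ u hℓ h3' hu hle => ?_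
  rw [fact_three] at hle
  have hd : 3 ^ 10 ∣ Nat.card (centralizer ({u} : Set Spor.Th)) :=
    (h3.out.pow_dvd_iff_le_factorization Nat.card_pos.ne').2 hle
  have hdu : ℓ ∣ Nat.card (centralizer ({u} : Set Spor.Th)) := by
    rw [← hu]
    exact Subgroup.orderOf_dvd_natCard _ (mem_centralizer_singleton_iff.2 rfl)
  have hdG : ℓ ∣ Nat.card Spor.Th := hdu.trans (Subgroup.card_subgroup_dvd_card _)
  have hm : ℓ ∈ [2, 3, 5, 7, 13, 19, 31] :=
    prime_cases hℓ 15 (n := Nat.card Spor.Th) hdG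
      (by rw [Cfsg.Agent.S1700.result.2]; norm_num)
  simp only [List.mem_cons, List.not_mem_nil, or_false] at hm
  rcases hm with rfl | rfl | rfl | rfl | rfl | rfl | rfl
  · rw [Cfsg.Agent.H513.NilpTh.card_inv hu] at hd
    revert hd; norm_num
  · exact h3' rfl
  · rw [card_five hu] at hd
    revert hd; norm_num
  · rcases Cfsg.Agent.H513.AbTh.cent_seven hu with h | h <;> rw [h] at hd <;> revert hd <;> norm_num
  · have h1 := Cfsg.Agent.H513.AbTh.bound13 hu
    have h2 : 3 ^ 10 * 13 ∣ Nat.card (centralizer ({u} : Set Spor.Th)) :=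
      Nat.Coprime.mul_dvd_of_dvd_of_dvd (by norm_num) hd hdu
    have h3 := Nat.le_of_dvd Nat.card_pos h2
    omega
  · have h1 := Cfsg.Agent.H513.AbTh.bound19 hu
    have h2 : 3 ^ 10 * 19 ∣ Nat.card (centralizer ({u} : Set Spor.Th)) :=
      Nat.Coprime.mul_dvd_of_dvd_of_dvd (by norm_num) hd hdu
    have h3 := Nat.le_of_dvd Nat.card_pos h2
    omega
  · have h1 := Cfsg.Agent.H513.AbTh.bound31 hu
    have h2 : 3 ^ 10 * 31 ∣ Nat.card (centralizer ({u} : Set Spor.Th)) :=
      Nat.Coprime.mul_dvd_of_dvd_of_dvd (by norm_num) hd hdu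
    have h3 := Nat.le_of_dvd Nat.card_pos h2
    omega

theorem imc_th_three {S : Type u} [Group S] [Finite S] [Fact (Nat.Prime 3)] (h : Spor.IsoTh S)
    (hNB : Cfsg.Agent.H7.NBp.NB 3 Spor.Th) : IMC 3 S := by
  obtain ⟨e⟩ := h
  have := fin_th
  exact IMC.of_equiv e (Cfsg.Agent.H661.SC.imc_of_NB hNB noCent_th_three)

/-- **the row of the Thompson group**, from `IMC 2` and `NB 3`. -/
theorem imc_th_of {S : Type u} [Group S] [Finite S] (h : Spor.IsoTh S) {p : ℕ} [hp : Fact p.Prime]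
    (hd : p ∣ Nat.card S) (h2 : [Fact (Nat.Prime 2)] → IMC 2 S) (hNB : Cfsg.Agent.H7.NBp.NB 3 Spor.Th) : IMC p S := by
  have hcS := Cfsg.Agent.H583.ImcTh.card_th h
  have hm : p ∈ [2, 3, 5, 7, 13, 19, 31] :=
    prime_cases hp.out 15 (n := Nat.card S) hd
      (by rw [hcS]; norm_num)
  simp only [List.mem_cons, List.not_mem_nil, or_false] at hm
  rcases hm with rfl | rfl | rfl | rfl | rfl | rfl | rfl
  · exact h2
  · exact imc_th_three h hNB
  · exact imc_th_five h
  · exact Cfsg.Agent.H583.ImcTh.imc_th_exact h hd (by rw [hcS]; norm_num)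
  · exact Cfsg.Agent.H583.ImcTh.imc_th_exact h hd (by rw [hcS]; norm_num)
  · exact Cfsg.Agent.H583.ImcTh.imc_th_exact h hd (by rw [hcS]; norm_num)
  · exact Cfsg.Agent.H583.ImcTh.imc_th_exact h hd (by rw [hcS]; norm_num)

end Cfsg.Agent.H393.ImcTh
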