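import Mathlib

/-!
# Commuting rational endomorphisms of coprime prime orders (helper393)

* `mul_eq_zero` : `X ^ p = 1`, `Y ^ q = 1`, `X Y = Y X`, `p ≠ q` primes, `dim V < (p - 1) (q - 1)`:
  `(X - 1) (Y - 1) = 0`;
* `le_rank` : `X ^ p = 1`, `X ≠ 1`: the rank of `X - 1` is at least `p - 1`;
* `add_le_finrank` : `X ≠ 1`, `Y ≠ 1`: `(p - 1) + (q - 1) ≤ dim V`.
-/

set_option autoImplicit false

namespace Cfsg.Agent.H393.LinCop

open Module Polynomial

variable {V : Type*} [AddCommGroup V] [Module ℚ V] [FiniteDimensional ℚ V] {p q : ℕ}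

theorem natDegree_minpoly_le [Nontrivial V] (f : End ℚ V) : (minpoly ℚ f).natDegree ≤ finrank ℚ V := by
  have h5 := Polynomial.natDegree_le_of_dvd (LinearMap.minpoly_dvd_charpoly f) f.charpoly_monic.ne_zero
  rwa [LinearMap.charpoly_natDegree] at h5

theorem mul_eq_zero (hp : p.Prime) (hq : q.Prime) (hpq : p ≠ q) {X Y : End ℚ V} (hX : X ^ p = 1) (hY : Y ^ q = 1)
    (hXY : X * Y = Y * X) (hd : finrank ℚ V < (p - 1) * (q - 1)) : (X - 1) * (Y - 1) = 0 := by
  rcases subsingleton_or_nontrivial V with hV | hV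
  · ext v; exact Subsingleton.elim _ _
  have hfp : Fact p.Prime := ⟨hp⟩
  have hfq : Fact q.Prime := ⟨hq⟩
  have hc : Commute X Y := hXY
  have hZ : (X * Y) ^ (q * p) = 1 := by
    rw [hc.mul_pow, pow_mul' X, hX, one_pow, pow_mul, hY, one_pow, one_mul]
  have hcop : p.Coprime q := (Nat.coprime_primes hp hq).2 hpq
  have hirr : Irreducible (cyclotomic (q * p) ℚ) := cyclotomic.irreducible_rat (Nat.mul_pos hq.pos hp.pos)
  -- `T ^ (q p) - 1 = Φ (Φ_q (T ^ p - 1))`
  have h1 : (Polynomial.X : ℚ[X]) ^ (q * p) - 1 =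
      cyclotomic (q * p) ℚ * (cyclotomic q ℚ * (Polynomial.X ^ p - 1)) := by
    have e1 := cyclotomic_expand_eq_cyclotomic_mul hp (n := q)
      (fun h => hpq ((Nat.prime_dvd_prime_iff_eq hp hq).1 h)) ℚ
    have e2 := congrArg (expand ℚ p) (cyclotomic_prime_mul_X_sub_one ℚ q)
    rw [map_mul, e1, map_sub, map_sub, map_one, map_pow, expand_X, ← pow_mul, mul_comm p q] at e2
    rw [← e2, mul_assoc]
  have h2 : minpoly ℚ (X * Y) ∣ cyclotomic (q * p) ℚ * (cyclotomic q ℚ * (Polynomial.X ^ p - 1)) := by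
    rw [← h1]
    exact minpoly.dvd ℚ _ (by simp [hZ])
  have h0 : minpoly ℚ (X * Y) ≠ 0 := minpoly.ne_zero (Algebra.IsIntegral.isIntegral _)
  have h3 : ¬ cyclotomic (q * p) ℚ ∣ minpoly ℚ (X * Y) := by
    intro h
    have h4 := Polynomial.natDegree_le_of_dvd h h0
    rw [natDegree_cyclotomic, Nat.totient_mul hcop.symm, Nat.totient_prime hp, Nat.totient_prime hq] at h4
    have h5 := natDegree_minpoly_le (X * Y)
    have h6 : (p - 1) * (q - 1) = (q - 1) * (p - 1) := mul_comm _ _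
    omega
  have h6 : IsCoprime (minpoly ℚ (X * Y)) (cyclotomic (q * p) ℚ) := ((hirr.coprime_iff_not_dvd).2 h3).symm
  have h7 := h6.dvd_of_dvd_mul_left h2
  have h8 : aeval (X * Y) (cyclotomic q ℚ * (Polynomial.X ^ p - 1)) = 0 := by
    obtain ⟨r, hr⟩ := h7
    rw [hr, map_mul, minpoly.aeval, zero_mul]
  have h9 : ((X * Y) ^ q - 1) * ((X * Y) ^ p - 1) = 0 := by
    have e3 : (X * Y) ^ q - 1 = aeval (X * Y) (cyclotomic q ℚ * (Polynomial.X - 1)) := by
      rw [cyclotomic_prime_mul_X_sub_one]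
      simp
    have e4 : (X * Y) ^ p - 1 = aeval (X * Y) (Polynomial.X ^ p - 1 : ℚ[X]) := by simp
    rw [e3, e4, ← map_mul]
    have e5 : cyclotomic q ℚ * (Polynomial.X - 1) * (Polynomial.X ^ p - 1) =
        (cyclotomic q ℚ * (Polynomial.X ^ p - 1)) * (Polynomial.X - 1) := by ring
    rw [e5, map_mul, h8, zero_mul]
  rw [hc.mul_pow, hc.mul_pow, hX, hY, one_mul, mul_one] at h9
  -- `X - 1` is a multiple of `X ^ q - 1`
  have key : ∀ {A : End ℚ V} {a b : ℕ}, A ^ a = 1 → 1 < a → b.Coprime a → ∃ C : End ℚ V, A - 1 = C * (A ^ b - 1) ∧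
      A - 1 = (A ^ b - 1) * C := by
    intro A a b hA ha hab
    obtain ⟨m, -, hm⟩ := Nat.exists_mul_mod_eq_one_of_coprime hab ha
    have e1 : (A ^ b) ^ m = A := by
      rw [← pow_mul, ← Nat.div_add_mod (b * m) a, hm, pow_add, pow_mul, hA, one_pow, one_mul, pow_one]
    refine ⟨∑ i ∈ Finset.range m, (A ^ b) ^ i, ?_, ?_⟩
    · rw [geom_sum_mul, e1]
    · rw [mul_geom_sum, e1]
  obtain ⟨C, hC1, -⟩ := key hX hp.one_lt hcop.symm
  obtain ⟨D, -, hD2⟩ := key hY hq.one_lt hcop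
  calc (X - 1) * (Y - 1) = C * ((X ^ q - 1) * (Y ^ p - 1)) * D := by rw [hC1, hD2]; noncomm_ring
    _ = 0 := by rw [h9, mul_zero, zero_mul]

/-- the rank of `X - 1` -/
theorem le_rank (hp : p.Prime) {X : End ℚ V} (hX : X ^ p = 1) (h1 : X ≠ 1) :
    p - 1 ≤ finrank ℚ (LinearMap.range (X - 1)) := by
  have hfp : Fact p.Prime := ⟨hp⟩
  have hW : ∀ v ∈ LinearMap.range (X - 1), X v ∈ LinearMap.range (X - 1) := by
    rintro _ ⟨v, rfl⟩
    exact ⟨X v, by simp⟩
  let Z : End ℚ (LinearMap.range (X - 1)) := X.restrict hW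
  have hnt : Nontrivial (LinearMap.range (X - 1)) := by
    rw [Submodule.nontrivial_iff_ne_bot]
    intro h
    apply h1
    rw [LinearMap.range_eq_bot] at h
    exact sub_eq_zero.1 h
  have hirr : Irreducible (cyclotomic p ℚ) := cyclotomic.irreducible_rat hp.pos
  have hz : aeval Z (cyclotomic p ℚ) = 0 := by
    have h2 : aeval X (cyclotomic p ℚ) * (X - 1) = 0 := by
      have e : X - 1 = aeval X (Polynomial.X - 1 : ℚ[X]) := by simp
      rw [e, ← map_mul, cyclotomic_prime_mul_X_sub_one]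
      simp [hX]
    refine LinearMap.ext fun w => Subtype.ext ?_
    obtain ⟨v, hv⟩ := w.2
    have h3 : ((aeval Z (cyclotomic p ℚ) w : LinearMap.range (X - 1)) : V) = aeval X (cyclotomic p ℚ) (w : V) := by
      rw [aeval_eq_sum_range, aeval_eq_sum_range]
      simp only [LinearMap.sum_apply, LinearMap.smul_apply, Submodule.coe_sum, Submodule.coe_smul]
      refine Finset.sum_congr rfl fun i _ => ?_
      congr 1
      rw [Module.End.pow_restrict]
      rfl
    rw [h3, ← hv]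
    have h4 := congrArg (fun f : End ℚ V => f v) h2
    exact h4
  have h5 : minpoly ℚ Z ∣ cyclotomic p ℚ := minpoly.dvd ℚ _ hz
  have h6 : Associated (minpoly ℚ Z) (cyclotomic p ℚ) := by
    refine ((hirr.dvd_iff.1 h5).resolve_left ?_).symm
    exact minpoly.not_isUnit ℚ Z
  have h7 : (minpoly ℚ Z).natDegree = p - 1 := by
    rw [Polynomial.natDegree_eq_of_degree_eq (Polynomial.degree_eq_degree_of_associated h6), natDegree_cyclotomic,
      Nat.totient_prime hp]
  rw [← h7]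
  exact natDegree_minpoly_le Z

/-- `(p - 1) + (q - 1) ≤ dim V` for nontrivial commuting elements, and the fixed space of `Y` is big. -/
theorem le_finrank_ker (hp : p.Prime) (hq : q.Prime) (hpq : p ≠ q) {X Y : End ℚ V} (hX : X ^ p = 1) (hY : Y ^ q = 1)
    (hXY : X * Y = Y * X) (hd : finrank ℚ V < (p - 1) * (q - 1)) (h1 : X ≠ 1) :
    p - 1 ≤ finrank ℚ (LinearMap.ker (Y - 1)) := by
  have h2 := mul_eq_zero hq hp hpq.symm hY hX hXY.symm (by rwa [mul_comm])
  refine (le_rank hp hX h1).trans (Submodule.finrank_mono ?_)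
  rintro _ ⟨v, rfl⟩
  rw [LinearMap.mem_ker]
  exact congrArg (fun f : End ℚ V => f v) h2

theorem add_le_finrank (hp : p.Prime) (hq : q.Prime) (hpq : p ≠ q) {X Y : End ℚ V} (hX : X ^ p = 1) (hY : Y ^ q = 1)
    (hXY : X * Y = Y * X) (hd : finrank ℚ V < (p - 1) * (q - 1)) (h1 : X ≠ 1) (h2 : Y ≠ 1) :
    (p - 1) + (q - 1) ≤ finrank ℚ V := by
  have h3 := le_finrank_ker hp hq hpq hX hY hXY hd h1
  have h4 := le_rank hq hY h2
  have h5 := LinearMap.finrank_range_add_finrank_ker (Y - 1)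
  omega

end Cfsg.Agent.H393.LinCop
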