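import Cfsg.Agent.H393.SpNum
import Cfsg.Agent.H393.Iso.All

/-!
# Sporadic groups: proper subgroups of index prime to `p` and `2` (helper393)
-/

set_option autoImplicit false

namespace Cfsg.Agent.H393.Sp

open Cfsg Cfsg.Agent.H393.Iso Cfsg.Agent.OrdDiv

universe u

theorem noBad_m11 (E : Env.{u}) {T : Type u} [Group T] [Finite T] [IsSimpleGroup T] (h : Spor.IsoM11 T) :
    NoBad 11 2 T :=
  noBad_num E (by norm_num) (by norm_num) Nat.prime_two (NotCT.Orders.m11 h) (na_m11 h) (na_m11 h) valid_m11 surv_m11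
    (by norm_num) (by norm_num) (by norm_num)

theorem noBad_m12 (E : Env.{u}) {T : Type u} [Group T] [Finite T] [IsSimpleGroup T] (h : Spor.IsoM12 T) :
    NoBad 11 2 T :=
  noBad_num E (by norm_num) (by norm_num) Nat.prime_two (NotCT.Orders.m12 h) (na_m12 h) (na_m12 h) valid_m12 surv_m12
    (by norm_num) (by norm_num) (by norm_num)

theorem noBad_m22 (E : Env.{u}) {T : Type u} [Group T] [Finite T] [IsSimpleGroup T] (h : Spor.IsoM22 T) :
    NoBad 11 2 T :=
  noBad_num E (by norm_num) (by norm_num) Nat.prime_two (NotCT.Orders.m22 h) (na_m22 h) (na_m22 h) valid_m22 surv_m22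
    (by norm_num) (by norm_num) (by norm_num)

theorem noBad_m23 (E : Env.{u}) {T : Type u} [Group T] [Finite T] [IsSimpleGroup T] (h : Spor.IsoM23 T) :
    NoBad 23 2 T :=
  noBad_num E (by norm_num) (by norm_num) Nat.prime_two (NotCT.Orders.m23 h) (na_m23 h) (na_m23 h) valid_m23 surv_m23
    (by norm_num) (by norm_num) (by norm_num)

theorem noBad_m24 (E : Env.{u}) {T : Type u} [Group T] [Finite T] [IsSimpleGroup T] (h : Spor.IsoM24 T) :
    NoBad 23 2 T :=
  noBad_num E (by norm_num) (by norm_num) Nat.prime_two (NotCT.Orders.m24 h) (na_m24 h) (na_m24 h) valid_m24 surv_m24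
    (by norm_num) (by norm_num) (by norm_num)

theorem noBad_j1 (E : Env.{u}) {T : Type u} [Group T] [Finite T] [IsSimpleGroup T] (h : Spor.IsoJ1 T) :
    NoBad 19 2 T :=
  noBad_num E (by norm_num) (by norm_num) Nat.prime_two (NotCT.Orders.j1 h) (na_j1 h) (na_j1 h) valid_j1 surv_j1
    (by norm_num) (by norm_num) (by norm_num)

theorem noBad_j3 (E : Env.{u}) {T : Type u} [Group T] [Finite T] [IsSimpleGroup T] (h : Spor.IsoJ3 T) :
    NoBad 19 2 T :=
  noBad_num E (by norm_num) (by norm_num) Nat.prime_two (NotCT.Orders.j3 h) (na_j3 h) (na_j3 h) valid_j3 surv_j3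
    (by norm_num) (by norm_num) (by norm_num)

theorem noBad_j4 (E : Env.{u}) {T : Type u} [Group T] [Finite T] [IsSimpleGroup T] (h : Spor.IsoJ4 T) :
    NoBad 37 2 T :=
  noBad_num E (by norm_num) (by norm_num) Nat.prime_two (NotCT.Orders.j4 h) (na_j4_37 h) (na_j4_37 h) valid_j4 surv_j4
    (by norm_num) (by norm_num) (by norm_num)

theorem noBad_co1 (E : Env.{u}) {T : Type u} [Group T] [Finite T] [IsSimpleGroup T] (h : Spor.IsoCo1 T) :
    NoBad 23 2 T :=
  noBad_num E (by norm_num) (by norm_num) Nat.prime_two (NotCT.Orders.co1 h) (na_co1 h) (na_co1 h) valid_co1 surv_co1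
    (by norm_num) (by norm_num) (by norm_num)

theorem noBad_co2 (E : Env.{u}) {T : Type u} [Group T] [Finite T] [IsSimpleGroup T] (h : Spor.IsoCo2 T) :
    NoBad 23 2 T :=
  noBad_num E (by norm_num) (by norm_num) Nat.prime_two (NotCT.Orders.co2 h) (na_co2 h) (na_co2 h) valid_co2 surv_co2
    (by norm_num) (by norm_num) (by norm_num)

theorem noBad_hs (E : Env.{u}) {T : Type u} [Group T] [Finite T] [IsSimpleGroup T] (h : Spor.IsoHS T) :
    NoBad 11 2 T :=
  noBad_num E (by norm_num) (by norm_num) Nat.prime_two (NotCT.Orders.hs h) (na_hs h) (na_hs h) valid_hs surv_hs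
    (by norm_num) (by norm_num) (by norm_num)

theorem noBad_suz (E : Env.{u}) {T : Type u} [Group T] [Finite T] [IsSimpleGroup T] (h : Spor.IsoSuz T) :
    NoBad 11 2 T :=
  noBad_num E (by norm_num) (by norm_num) Nat.prime_two (NotCT.Orders.suz h) (na_suz h) (na_suz h) valid_suz surv_suz
    (by norm_num) (by norm_num) (by norm_num)

theorem noBad_ru (E : Env.{u}) {T : Type u} [Group T] [Finite T] [IsSimpleGroup T] (h : Spor.IsoRu T) :
    NoBad 29 2 T :=
  noBad_num E (by norm_num) (by norm_num) Nat.prime_two (NotCT.Orders.ru h) (na_ru h) (na_ru h) valid_ru surv_ru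
    (by norm_num) (by norm_num) (by norm_num)

theorem noBad_on (E : Env.{u}) {T : Type u} [Group T] [Finite T] [IsSimpleGroup T] (h : Spor.IsoON T) :
    NoBad 31 2 T :=
  noBad_num E (by norm_num) (by norm_num) Nat.prime_two (NotCT.Orders.on h) (na_on h) (na_on h) valid_on surv_on
    (by norm_num) (by norm_num) (by norm_num)

theorem noBad_ly (E : Env.{u}) {T : Type u} [Group T] [Finite T] [IsSimpleGroup T] (h : Spor.IsoLy T) :
    NoBad 67 2 T :=
  noBad_num E (by norm_num) (by norm_num) Nat.prime_two (NotCT.Orders.ly h) (na_ly h) (na_ly h) valid_ly surv_ly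
    (by norm_num) (by norm_num) (by norm_num)

theorem noBad_fi22 (E : Env.{u}) {T : Type u} [Group T] [Finite T] [IsSimpleGroup T] (h : Spor.IsoFi22 T) :
    NoBad 13 2 T :=
  noBad_num E (by norm_num) (by norm_num) Nat.prime_two (NotCT.Orders.fi22 h) (na_fi22 h) (na_fi22 h) valid_fi22 surv_fi22
    (by norm_num) (by norm_num) (by norm_num)

theorem noBad_fi23 (E : Env.{u}) {T : Type u} [Group T] [Finite T] [IsSimpleGroup T] (h : Spor.IsoFi23 T) :
    NoBad 23 2 T :=
  noBad_num E (by norm_num) (by norm_num) Nat.prime_two (NotCT.Orders.fi23 h) (na_fi23 h) (na_fi23 h) valid_fi23 surv_fi23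
    (by norm_num) (by norm_num) (by norm_num)

theorem noBad_fi24 (E : Env.{u}) {T : Type u} [Group T] [Finite T] [IsSimpleGroup T] (h : Spor.IsoFi24' T) :
    NoBad 29 2 T :=
  noBad_num E (by norm_num) (by norm_num) Nat.prime_two (NotCT.Orders.fi24 h) (na_fi24 h) (na_fi24 h) valid_fi24 surv_fi24
    (by norm_num) (by norm_num) (by norm_num)

theorem noBad_hn (E : Env.{u}) {T : Type u} [Group T] [Finite T] [IsSimpleGroup T] (h : Spor.IsoHN T) :
    NoBad 19 2 T :=
  noBad_num E (by norm_num) (by norm_num) Nat.prime_two (NotCT.Orders.hn h) (na_hn h) (na_hn h) valid_hn surv_hn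
    (by norm_num) (by norm_num) (by norm_num)

theorem noBad_th (E : Env.{u}) {T : Type u} [Group T] [Finite T] [IsSimpleGroup T] (h : Spor.IsoTh T) :
    NoBad 19 2 T :=
  noBad_num E (by norm_num) (by norm_num) Nat.prime_two (NotCT.Orders.th h) (na_th h) (na_th h) valid_th surv_th
    (by norm_num) (by norm_num) (by norm_num)

theorem noBad_b (E : Env.{u}) {T : Type u} [Group T] [Finite T] [IsSimpleGroup T] (h : Spor.IsoB T) :
    NoBad 47 2 T :=
  noBad_num E (by norm_num) (by norm_num) Nat.prime_two (NotCT.Orders.b h) (na_b h) (na_b h) valid_b surv_b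
    (by norm_num) (by norm_num) (by norm_num)

theorem noBad_m (E : Env.{u}) {T : Type u} [Group T] [Finite T] [IsSimpleGroup T] (h : Spor.IsoM T) :
    NoBad 71 2 T :=
  noBad_num E (by norm_num) (by norm_num) Nat.prime_two (NotCT.Orders.m h) (na_m h (Or.inr (Or.inr rfl))) (na_m h (Or.inr (Or.inr rfl))) valid_m surv_m
    (by norm_num) (by norm_num) (by norm_num)

theorem noBad_tits (E : Env.{u}) {T : Type u} [Group T] [Finite T] [IsSimpleGroup T] (h : Lie.IsoTits T) :
    NoBad 13 2 T :=
  noBad_num E (by norm_num) (by norm_num) Nat.prime_two (NotCT.Orders.tits h) (na_tits h) (na_tits h) valid_tits surv_tits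
    (by norm_num) (by norm_num) (by norm_num)

end Cfsg.Agent.H393.Sp
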