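import Cfsg.Agent.H393.LinCop
import Cfsg.Agent.H393.SpRows
import Cfsg.Agent.CoFive.Dims

/-!
# `Co₃` and `McL`: elements of order 23 and 5, 11 and 5 do not commute (helper393)
-/

set_option autoImplicit false
set_option maxRecDepth 100000

namespace Cfsg.Agent.H393.Sp

open Module Cfsg Cfsg.Agent.SigZeroCo2.Lin Cfsg.Agent.SigZeroCo2.Rank

theorem finrank_sp : finrank ℚ Sp = 24 := by
  rw [Module.finrank_fintype_fun_eq_card]
  decide +kernel

theorem rep_pow {g : Co0} {n : ℕ} (h : orderOf g = n) : rep g ^ n = 1 := by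
  rw [← map_pow, ← h, pow_orderOf_eq_one, map_one]

theorem rep_ne {g : Co0} (h : orderOf g ≠ 1) : rep g ≠ 1 := by
  intro h1
  apply h
  rw [orderOf_eq_one_iff]
  exact rep_injective (h1.trans (map_one rep).symm)

/-- elements of order 23 and 5 of `Co₀` do not commute -/
theorem co0_23_5 (x y : Co0) (hx : orderOf x = 23) (hy : orderOf y = 5) : x * y ≠ y * x := by
  intro h
  have h1 := LinCop.add_le_finrank (p := 23) (q := 5) (by norm_num) (by norm_num) (by norm_num) (rep_pow hx)
    (rep_pow hy) (by rw [← map_mul, h, map_mul]) (by rw [finrank_sp]; norm_num) (rep_ne (by omega)) (rep_ne (by omega))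
  rw [finrank_sp] at h1
  omega

/-- elements of order 11 and 5 of `Co₀` do not commute -/
theorem co0_11_5 (x y : Co0) (hx : orderOf x = 11) (hy : orderOf y = 5) : x * y ≠ y * x := by
  intro h
  have h1 := LinCop.le_finrank_ker (p := 11) (q := 5) (by norm_num) (by norm_num) (by norm_num) (rep_pow hx)
    (rep_pow hy) (by rw [← map_mul, h, map_mul]) (by rw [finrank_sp]; norm_num) (rep_ne (by omega))
  have h2 : LinearMap.ker (rep y - 1) = Cfsg.Agent.SigZeroCo2.Rank.fix (rep y) := rfl
  rw [h2] at h1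
  rcases CoFive.Dims.dims hy with ⟨-, h3⟩ | ⟨-, h3⟩ | ⟨-, h3⟩ <;> omega

theorem transfer {G : Type*} [Group G] (f : G →* Co0) (hf : Function.Injective f) {p q : ℕ}
    (h : ∀ x y : Co0, orderOf x = p → orderOf y = q → x * y ≠ y * x) (x y : G) (hx : orderOf x = p)
    (hy : orderOf y = q) : x * y ≠ y * x := fun hc =>
  h (f x) (f y) (by rw [orderOf_injective f hf, hx]) (by rw [orderOf_injective f hf, hy])
    (by rw [← map_mul, hc, map_mul])

universe u

open Cfsg.Agent.OrdDiv Cfsg.Agent.H393.Iso

theorem co3_le : Spor.Co3 ≤ Co0 := inf_le_left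

theorem mcl_le : Spor.McL ≤ Co0 := inf_le_left.trans inf_le_left

theorem noBad_co3 (E : Env.{u}) {T : Type u} [Group T] [Finite T] [IsSimpleGroup T] (h : Spor.IsoCo3 T) :
    NoBad 23 5 T := by
  obtain ⟨e⟩ := id h
  refine noBad_num E (by norm_num) (by norm_num) (by norm_num) (NotCT.Orders.co3 h) (na_co3 h) ?_ valid_co3 surv_co3
    (by norm_num) (by norm_num) (by norm_num)
  exact transfer ((Subgroup.inclusion co3_le).comp e.toMonoidHom)
    ((Subgroup.inclusion_injective co3_le).comp e.injective) co0_23_5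

theorem noBad_mcl (E : Env.{u}) {T : Type u} [Group T] [Finite T] [IsSimpleGroup T] (h : Spor.IsoMcL T) :
    NoBad 11 5 T := by
  obtain ⟨e⟩ := id h
  have hT := NotCT.Orders.mcl h
  have hno : ∀ x y : T, orderOf x = 11 → orderOf y = 5 → x * y ≠ y * x :=
    transfer ((Subgroup.inclusion mcl_le).comp e.toMonoidHom)
      ((Subgroup.inclusion_injective mcl_le).comp e.injective) co0_11_5
  refine noBad_of (j := 3) (by norm_num) (by norm_num) (by rw [hT]; norm_num) (by rw [hT]; norm_num) (na_mcl h) hno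
    (by rw [hT]; norm_num) E.ev (fun K _ _ _ hK hp => E.cop K hK 11 (by norm_num) (by norm_num) hp) ?_
  intro K _ _ _ a b hKna hab hpK h5a h5 hfac
  rw [hT] at hab hfac
  rcases mem_surv (E.known K) hKna valid_mcl (Dvd.intro _ (by rw [← hab, mul_assoc])) hpK h5 with h1 | h1
  · rw [h1, mul_assoc] at hab
    have h2 : a * b = 1 := by omega
    exact Nat.dvd_one.1 (Dvd.intro_left _ h2)
  · rw [surv_mcl, List.mem_singleton] at h1
    rw [h1] at hab h5a
    have h2 : a * b = 45 := by
      rw [mul_assoc] at hab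
      omega
    have h3 : 5 ∣ a := by
      have h4 : 5 ^ 3 ∣ 25 * (798336 * a) := by
        refine h5a.trans (dvd_of_eq ?_)
        ring
      have h6 : 5 ∣ 798336 * a := by
        have : (5 : ℕ) ^ 3 = 25 * 5 := by norm_num
        rw [this] at h4
        exact Nat.dvd_of_mul_dvd_mul_left (by norm_num) h4
      exact (Nat.Coprime.dvd_of_dvd_mul_left (by norm_num) h6)
    obtain ⟨c, rfl⟩ := h3
    have h4 : c * b = 9 := by
      have : 5 * (c * b) = 45 := by rw [← h2]; ring
      omega
    have hb : b ≤ 9 := Nat.le_of_dvd (by norm_num) (Dvd.intro_left _ h4)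
    have h6 := Nat.le_of_dvd (Nat.factorial_pos _) hfac
    have h7 := Nat.factorial_le hb
    have h8 : Nat.factorial 9 = 362880 := by decide
    omega

end Cfsg.Agent.H393.Sp
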