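import Cfsg.Agent.H393.SpRows
import Cfsg.Agent.CpAutTThree.JTwo
import Cfsg.Agent.J2Type.ThreeF

/-!
# `J₂`: elements of order 7 and 5 do not commute (helper393)
-/

set_option autoImplicit false

namespace Cfsg.Agent.H393.Sp

open Subgroup Cfsg Cfsg.Agent.H393.Iso

theorem j2_no_comm (x y : Cfsg.Spor.J2) (hx : orderOf x = 7) (hy : orderOf y = 5) : x * y ≠ y * x := by
  intro h
  have hfin := CpAutTThree.JTwo.finite_J2
  obtain ⟨t, w, Q, v, ρ, D⟩ := KFacts.J2.Basic.exists_dat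
  have h7 : Fact (Nat.Prime 7) := ⟨by norm_num⟩
  have hP : IsPGroup 7 (zpowers x) := IsPGroup.of_card (n := 1) (by rw [Nat.card_zpowers, hx, pow_one])
  obtain ⟨S, hS⟩ := hP.exists_le_sylow
  obtain ⟨h1, h2, -⟩ := J2Type.ThreeF.sylow_seven D.F S
  obtain ⟨k, hk⟩ := IsPGroup.iff_card.1 S.2
  have h3 : Nat.card (S : Subgroup Cfsg.Spor.J2) ∣ 42 := by
    rw [← h2]
    exact card_dvd_of_le le_normalizer
  have hk1 : k ≤ 1 := by
    by_contra hc
    push Not at hc
    rw [hk] at h3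
    have h4 := (pow_dvd_pow 7 hc).trans h3
    norm_num at h4
  have h5 : zpowers x = S := by
    apply eq_of_le_of_card_ge hS
    rw [hk, Nat.card_zpowers, hx]
    calc 7 ^ k ≤ 7 ^ 1 := Nat.pow_le_pow_right (by norm_num) hk1
      _ = 7 := by norm_num
  have h6 : y ∈ (S : Subgroup Cfsg.Spor.J2) := by
    rw [← h1, ← h5, mem_centralizer_iff]
    intro z hz
    obtain ⟨n, rfl⟩ := mem_zpowers_iff.1 hz
    exact ((show Commute x y from h).zpow_left n).eq
  rw [← h5] at h6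
  have h7' := orderOf_dvd_natCard (⟨y, h6⟩ : zpowers x)
  rw [← orderOf_coe, Nat.card_zpowers, hx] at h7'
  have h8 : (5 : ℕ) ∣ 7 := by rw [← hy]; exact h7'
  norm_num at h8

universe u

theorem noBad_j2 (E : Env.{u}) {T : Type u} [Group T] [Finite T] [IsSimpleGroup T] (h : Spor.IsoJ2 T) :
    NoBad 7 5 T := by
  obtain ⟨e⟩ := id h
  refine noBad_num E (by norm_num) (by norm_num) (by norm_num) (NotCT.Orders.j2 h) (na_j2 h) ?_ valid_j2 surv_j2
    (by norm_num) (by norm_num) (by norm_num)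
  intro x y hx hy hc
  exact j2_no_comm (e x) (e y) (by rw [MulEquiv.orderOf_eq, hx]) (by rw [MulEquiv.orderOf_eq, hy])
    (by rw [← map_mul, hc, map_mul])

end Cfsg.Agent.H393.Sp
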