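import Cfsg.Agent.H393.SpJ2
import Cfsg.Agent.H393.SpHe
import Cfsg.Agent.H393.SpCo

/-!
# Sporadic groups and the Tits group: no three proper subgroups of pairwise coprime indices (helper393)
-/

set_option autoImplicit false

namespace Cfsg.Agent.H393.Sp

open Cfsg Cfsg.Agent.H393.Iso

universe u

theorem noThree_tits (E : Env.{u}) {T : Type u} [Group T] [Finite T] [IsSimpleGroup T] (h : Lie.IsoTits T) :
    NoThree T := (noBad_tits E h).noThree (by norm_num) (by norm_num)

theorem noThree_sporadic (E : Env.{u}) {T : Type u} [Group T] [Finite T] [IsSimpleGroup T] (h : IsSporadicGroup T) :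
    NoThree T := by
  rcases h with h | h | h | h | h | h | h | h | h | h | h | h | h | h | h | h | h | h | h | h | h | h | h | h | h | h
  · exact (noBad_m11 E h).noThree (by norm_num) (by norm_num)
  · exact (noBad_m12 E h).noThree (by norm_num) (by norm_num)
  · exact (noBad_m22 E h).noThree (by norm_num) (by norm_num)
  · exact (noBad_m23 E h).noThree (by norm_num) (by norm_num)
  · exact (noBad_m24 E h).noThree (by norm_num) (by norm_num)
  · exact (noBad_j1 E h).noThree (by norm_num) (by norm_num)
  · exact (noBad_j2 E h).noThree (by norm_num) (by norm_num)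
  · exact (noBad_j3 E h).noThree (by norm_num) (by norm_num)
  · exact (noBad_j4 E h).noThree (by norm_num) (by norm_num)
  · exact (noBad_co1 E h).noThree (by norm_num) (by norm_num)
  · exact (noBad_co2 E h).noThree (by norm_num) (by norm_num)
  · exact (noBad_co3 E h).noThree (by norm_num) (by norm_num)
  · exact (noBad_mcl E h).noThree (by norm_num) (by norm_num)
  · exact (noBad_hs E h).noThree (by norm_num) (by norm_num)
  · exact (noBad_suz E h).noThree (by norm_num) (by norm_num)
  · exact (noBad_he E h).noThree (by norm_num) (by norm_num)
  · exact (noBad_ru E h).noThree (by norm_num) (by norm_num)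
  · exact (noBad_on E h).noThree (by norm_num) (by norm_num)
  · exact (noBad_ly E h).noThree (by norm_num) (by norm_num)
  · exact (noBad_fi22 E h).noThree (by norm_num) (by norm_num)
  · exact (noBad_fi23 E h).noThree (by norm_num) (by norm_num)
  · exact (noBad_fi24 E h).noThree (by norm_num) (by norm_num)
  · exact (noBad_hn E h).noThree (by norm_num) (by norm_num)
  · exact (noBad_th E h).noThree (by norm_num) (by norm_num)
  · exact (noBad_b E h).noThree (by norm_num) (by norm_num)
  · exact (noBad_m E h).noThree (by norm_num) (by norm_num)

end Cfsg.Agent.H393.Sp
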