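import Cfsg.Agent.H393.SpTool
import Cfsg.Agent.OrdDiv.Table

/-!
# The numerical conditions for the sporadic groups (helper393)
-/

set_option autoImplicit false
set_option maxRecDepth 100000

namespace Cfsg.Agent.H393.Sp

open Subgroup Cfsg Cfsg.Agent.H393.Iso Cfsg.Agent.OrdDiv

universe u

/-- the orders of the known simple groups dividing `N`, divisible by `p`, `Q` dividing the order times `c`, different
from `N` -/
def surv (l : List (ℕ × ℕ)) (N p Q c : ℕ) : List ℕ :=
  ((cands l N).filter fun g => and (Nat.beq (ordN g % p) 0)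
    (and (Nat.beq ((ordN g * c) % Q) 0) (!Nat.beq (ordN g) N))).map ordN

theorem mem_surv {K : Type u} [Group K] (hk : IsKnownSimple' K) (hna : ¬ IsMulCommutative K) {l : List (ℕ × ℕ)}
    {N p Q c : ℕ} (hv : valid l N = true) (hd : Nat.card K ∣ N) (hp : p ∣ Nat.card K) (hQ : Q ∣ Nat.card K * c) :
    Nat.card K = N ∨ Nat.card K ∈ surv l N p Q c := by
  by_cases hN : Nat.card K = N
  · exact Or.inl hN
  · obtain ⟨g, h1, -, h3⟩ := exists_good table hk (fun h => hna ⟨⟨h⟩⟩) hv hd
    refine Or.inr (List.mem_map.2 ⟨g, List.mem_filter.2 ⟨h1, ?_⟩, h3.symm⟩)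
    rw [← h3, Nat.mod_eq_zero_of_dvd hp, Nat.mod_eq_zero_of_dvd hQ]
    have : Nat.beq (Nat.card K) N = false := by
      rw [← Bool.not_eq_true, Nat.beq_eq]
      exact hN
    rw [this]
    rfl

theorem valid_tits : valid [(2, 11), (3, 3), (5, 2), (13, 1)] 17971200 = true := by decide +kernel

theorem surv_tits : surv [(2, 11), (3, 3), (5, 2), (13, 1)] 17971200 13 (2 ^ 11) 12 = [] := by decide +kernel

theorem valid_m11 : valid [(2, 4), (3, 2), (5, 1), (11, 1)] 7920 = true := by decide +kernel

theorem surv_m11 : surv [(2, 4), (3, 2), (5, 1), (11, 1)] 7920 11 (2 ^ 4) 10 = [] := by decide +kernel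

theorem valid_m12 : valid [(2, 6), (3, 3), (5, 1), (11, 1)] 95040 = true := by decide +kernel

theorem surv_m12 : surv [(2, 6), (3, 3), (5, 1), (11, 1)] 95040 11 (2 ^ 6) 10 = [] := by decide +kernel

theorem valid_m22 : valid [(2, 7), (3, 2), (5, 1), (7, 1), (11, 1)] 443520 = true := by decide +kernel

theorem surv_m22 : surv [(2, 7), (3, 2), (5, 1), (7, 1), (11, 1)] 443520 11 (2 ^ 7) 10 = [] := by decide +kernel

theorem valid_m23 : valid [(2, 7), (3, 2), (5, 1), (7, 1), (11, 1), (23, 1)] 10200960 = true := by decide +kernel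

theorem surv_m23 : surv [(2, 7), (3, 2), (5, 1), (7, 1), (11, 1), (23, 1)] 10200960 23 (2 ^ 7) 22 = [] := by decide +kernel

theorem valid_m24 : valid [(2, 10), (3, 3), (5, 1), (7, 1), (11, 1), (23, 1)] 244823040 = true := by decide +kernel

theorem surv_m24 : surv [(2, 10), (3, 3), (5, 1), (7, 1), (11, 1), (23, 1)] 244823040 23 (2 ^ 10) 22 = [] := by decide +kernel

theorem valid_j1 : valid [(2, 3), (3, 1), (5, 1), (7, 1), (11, 1), (19, 1)] 175560 = true := by decide +kernel

theorem surv_j1 : surv [(2, 3), (3, 1), (5, 1), (7, 1), (11, 1), (19, 1)] 175560 19 (2 ^ 3) 18 = [] := by decide +kernel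

theorem valid_j2 : valid [(2, 7), (3, 3), (5, 2), (7, 1)] 604800 = true := by decide +kernel

theorem surv_j2 : surv [(2, 7), (3, 3), (5, 2), (7, 1)] 604800 7 (5 ^ 2) 6 = [] := by decide +kernel

theorem valid_j3 : valid [(2, 7), (3, 5), (5, 1), (17, 1), (19, 1)] 50232960 = true := by decide +kernel

theorem surv_j3 : surv [(2, 7), (3, 5), (5, 1), (17, 1), (19, 1)] 50232960 19 (2 ^ 7) 18 = [] := by decide +kernel

theorem valid_j4 : valid [(2, 21), (3, 3), (5, 1), (7, 1), (11, 3), (23, 1), (29, 1), (31, 1), (37, 1), (43, 1)] 86775571046077562880 = true := by decide +kernel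

theorem surv_j4 : surv [(2, 21), (3, 3), (5, 1), (7, 1), (11, 3), (23, 1), (29, 1), (31, 1), (37, 1), (43, 1)] 86775571046077562880 37 (2 ^ 21) 36 = [] := by decide +kernel

theorem valid_co1 : valid [(2, 21), (3, 9), (5, 4), (7, 2), (11, 1), (13, 1), (23, 1)] 4157776806543360000 = true := by decide +kernel

theorem surv_co1 : surv [(2, 21), (3, 9), (5, 4), (7, 2), (11, 1), (13, 1), (23, 1)] 4157776806543360000 23 (2 ^ 21) 22 = [] := by decide +kernel

theorem valid_co2 : valid [(2, 18), (3, 6), (5, 3), (7, 1), (11, 1), (23, 1)] 42305421312000 = true := by decide +kernel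

theorem surv_co2 : surv [(2, 18), (3, 6), (5, 3), (7, 1), (11, 1), (23, 1)] 42305421312000 23 (2 ^ 18) 22 = [] := by decide +kernel

theorem valid_co3 : valid [(2, 10), (3, 7), (5, 3), (7, 1), (11, 1), (23, 1)] 495766656000 = true := by decide +kernel

theorem surv_co3 : surv [(2, 10), (3, 7), (5, 3), (7, 1), (11, 1), (23, 1)] 495766656000 23 (5 ^ 3) 22 = [] := by decide +kernel

theorem valid_mcl : valid [(2, 7), (3, 6), (5, 3), (7, 1), (11, 1)] 898128000 = true := by decide +kernel

theorem surv_mcl : surv [(2, 7), (3, 6), (5, 3), (7, 1), (11, 1)] 898128000 11 (5 ^ 3) 10 = [19958400] := by decide +kernel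

theorem valid_hs : valid [(2, 9), (3, 2), (5, 3), (7, 1), (11, 1)] 44352000 = true := by decide +kernel

theorem surv_hs : surv [(2, 9), (3, 2), (5, 3), (7, 1), (11, 1)] 44352000 11 (2 ^ 9) 10 = [] := by decide +kernel

theorem valid_suz : valid [(2, 13), (3, 7), (5, 2), (7, 1), (11, 1), (13, 1)] 448345497600 = true := by decide +kernel

theorem surv_suz : surv [(2, 13), (3, 7), (5, 2), (7, 1), (11, 1), (13, 1)] 448345497600 11 (2 ^ 13) 10 = [] := by decide +kernel

theorem valid_he : valid [(2, 10), (3, 3), (5, 2), (7, 3), (17, 1)] 4030387200 = true := by decide +kernel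

theorem surv_he : surv [(2, 10), (3, 3), (5, 2), (7, 3), (17, 1)] 4030387200 17 (3 ^ 3) 16 = [] := by decide +kernel

theorem valid_ru : valid [(2, 14), (3, 3), (5, 3), (7, 1), (13, 1), (29, 1)] 145926144000 = true := by decide +kernel

theorem surv_ru : surv [(2, 14), (3, 3), (5, 3), (7, 1), (13, 1), (29, 1)] 145926144000 29 (2 ^ 14) 28 = [] := by decide +kernel

theorem valid_on : valid [(2, 9), (3, 4), (5, 1), (7, 3), (11, 1), (19, 1), (31, 1)] 460815505920 = true := by decide +kernel

theorem surv_on : surv [(2, 9), (3, 4), (5, 1), (7, 3), (11, 1), (19, 1), (31, 1)] 460815505920 31 (2 ^ 9) 30 = [] := by decide +kernel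

theorem valid_ly : valid [(2, 8), (3, 7), (5, 6), (7, 1), (11, 1), (31, 1), (37, 1), (67, 1)] 51765179004000000 = true := by decide +kernel

theorem surv_ly : surv [(2, 8), (3, 7), (5, 6), (7, 1), (11, 1), (31, 1), (37, 1), (67, 1)] 51765179004000000 67 (2 ^ 8) 66 = [] := by decide +kernel

theorem valid_fi22 : valid [(2, 17), (3, 9), (5, 2), (7, 1), (11, 1), (13, 1)] 64561751654400 = true := by decide +kernel

theorem surv_fi22 : surv [(2, 17), (3, 9), (5, 2), (7, 1), (11, 1), (13, 1)] 64561751654400 13 (2 ^ 17) 12 = [] := by decide +kernel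

theorem valid_fi23 : valid [(2, 18), (3, 13), (5, 2), (7, 1), (11, 1), (13, 1), (17, 1), (23, 1)] 4089470473293004800 = true := by decide +kernel

theorem surv_fi23 : surv [(2, 18), (3, 13), (5, 2), (7, 1), (11, 1), (13, 1), (17, 1), (23, 1)] 4089470473293004800 23 (2 ^ 18) 22 = [] := by decide +kernel

theorem valid_fi24 : valid [(2, 21), (3, 16), (5, 2), (7, 3), (11, 1), (13, 1), (17, 1), (23, 1), (29, 1)] 1255205709190661721292800 = true := by decide +kernel

theorem surv_fi24 : surv [(2, 21), (3, 16), (5, 2), (7, 3), (11, 1), (13, 1), (17, 1), (23, 1), (29, 1)] 1255205709190661721292800 29 (2 ^ 21) 28 = [] := by decide +kernel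

theorem valid_hn : valid [(2, 14), (3, 6), (5, 6), (7, 1), (11, 1), (19, 1)] 273030912000000 = true := by decide +kernel

theorem surv_hn : surv [(2, 14), (3, 6), (5, 6), (7, 1), (11, 1), (19, 1)] 273030912000000 19 (2 ^ 14) 18 = [] := by decide +kernel

theorem valid_th : valid [(2, 15), (3, 10), (5, 3), (7, 2), (13, 1), (19, 1), (31, 1)] 90745943887872000 = true := by decide +kernel

theorem surv_th : surv [(2, 15), (3, 10), (5, 3), (7, 2), (13, 1), (19, 1), (31, 1)] 90745943887872000 19 (2 ^ 15) 18 = [] := by decide +kernel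

theorem valid_b : valid [(2, 41), (3, 13), (5, 6), (7, 2), (11, 1), (13, 1), (17, 1), (19, 1), (23, 1), (31, 1), (47, 1)] 4154781481226426191177580544000000 = true := by decide +kernel

theorem surv_b : surv [(2, 41), (3, 13), (5, 6), (7, 2), (11, 1), (13, 1), (17, 1), (19, 1), (23, 1), (31, 1), (47, 1)] 4154781481226426191177580544000000 47 (2 ^ 41) 46 = [] := by decide +kernel

theorem valid_m : valid [(2, 46), (3, 20), (5, 9), (7, 6), (11, 2), (13, 3), (17, 1), (19, 1), (23, 1), (29, 1), (31, 1), (41, 1), (47, 1), (59, 1), (71, 1)] 808017424794512875886459904961710757005754368000000000 = true := by decide +kernel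

theorem surv_m : surv [(2, 46), (3, 20), (5, 9), (7, 6), (11, 2), (13, 3), (17, 1), (19, 1), (23, 1), (29, 1), (31, 1), (41, 1), (47, 1), (59, 1), (71, 1)] 808017424794512875886459904961710757005754368000000000 71 (2 ^ 46) 70 = [] := by decide +kernel


/-- what is used about all finite simple groups -/
structure Env : Prop where
  known : ∀ (K : Type u) [Group K] [Finite K] [IsSimpleGroup K], IsKnownSimple' K
  ev : ∀ (K : Type u) [Group K] [Finite K] [IsSimpleGroup K], ¬ IsMulCommutative K → ∃ t : K, orderOf t = 2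
  cop : ∀ (K : Type u) [Group K] [Finite K] [IsSimpleGroup K], ¬ IsMulCommutative K → ∀ p : ℕ, p.Prime → p ≠ 2 →
    ¬ p ∣ Nat.card K → CopInv p K

/-- the criterion, with the order table -/
theorem noBad_num (E : Env.{u}) {T : Type u} [Group T] [Finite T] [IsSimpleGroup T] {p q j N : ℕ}
    {l : List (ℕ × ℕ)} (hp : p.Prime) (hp2 : p ≠ 2) (hq : q.Prime) (hT : Nat.card T = N) (hna : NA p T)
    (hno : ∀ x y : T, orderOf x = p → orderOf y = q → x * y ≠ y * x) (hv : valid l N = true)
    (hs : surv l N p (q ^ j) (p - 1) = []) (hpN : N % p = 0) (hppN : N % p ^ 2 ≠ 0) (hj : N % q ^ j = 0) :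
    NoBad p q T := by
  refine noBad_of (j := j) hp hq (hT ▸ Nat.dvd_of_mod_eq_zero hpN)
    (fun h => hppN (Nat.mod_eq_zero_of_dvd (hT ▸ h))) hna hno (hT ▸ Nat.dvd_of_mod_eq_zero hj) E.ev
    (fun K _ _ _ hK h => E.cop K hK p hp hp2 h) ?_
  intro K _ _ _ a b hKna hab hpK _ hQ _
  rw [hT] at hab
  rcases mem_surv (E.known K) hKna hv (Dvd.intro _ (by rw [← hab, mul_assoc])) hpK hQ with h | h
  · have hpos : 0 < N := by rw [← hT]; exact Nat.card_pos
    rw [h, mul_assoc] at hab
    have h1 : N * (a * b) = N * 1 := by rw [hab, mul_one]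
    exact Nat.dvd_one.1 (Dvd.intro_left _ (Nat.eq_of_mul_eq_mul_left hpos h1))
  · rw [hs] at h
    exact absurd h List.not_mem_nil

end Cfsg.Agent.H393.Sp
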