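import Mathlib
import Cfsg.Agent.H393.Core

/-!
# Faithful suborbits of coprime lengths: reduction to subgroups of simple groups
-/

set_option autoImplicit false

namespace Cfsg.Agent.H393

open MulAction

/-- The stabiliser in `H = G_a` of a point of a faithful `H`-orbit is core-free. -/
theorem normalCore_stabilizer {G Ω : Type*} [Group G] [MulAction G Ω] (H : Subgroup G) (b : Ω)
    (hb : ∀ g : G, g ∈ H → (∀ x ∈ orbit H b, g • x = x) → g = 1) :
    (stabilizer H b).normalCore = ⊥ := by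
  rw [eq_bot_iff]
  intro g hg
  rw [Subgroup.mem_bot]
  apply Subtype.ext
  refine hb g g.2 ?_
  rintro _ ⟨h, rfl⟩
  have h1 : h⁻¹ * g * h⁻¹⁻¹ ∈ stabilizer H b := hg h⁻¹
  rw [mem_stabilizer_iff, inv_inv, mul_smul, mul_smul, inv_smul_eq_iff] at h1
  exact h1

theorem card_orbit_eq_index {G Ω : Type*} [Group G] [MulAction G Ω] (H : Subgroup G) (b : Ω) :
    Nat.card (orbit H b) = (stabilizer H b).index := by
  rw [index_stabilizer, Nat.card_coe_set_eq]

theorem subdegrees_of_noThree {G Ω : Type*} [Group G] [Finite G] [MulAction G Ω]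
    (H : Subgroup G) (hne : H ≠ ⊥) (hall : ∀ T : Subgroup H, IsSimpleGroup T → NoThree T)
    (b c d : Ω)
    (hb : ∀ g : G, g ∈ H → (∀ x ∈ orbit H b, g • x = x) → g = 1)
    (hc : ∀ g : G, g ∈ H → (∀ x ∈ orbit H c, g • x = x) → g = 1)
    (hd : ∀ g : G, g ∈ H → (∀ x ∈ orbit H d, g • x = x) → g = 1) :
    ¬ ((Nat.card (orbit H b)).Coprime (Nat.card (orbit H c)) ∧
       (Nat.card (orbit H b)).Coprime (Nat.card (orbit H d)) ∧
       (Nat.card (orbit H c)).Coprime (Nat.card (orbit H d))) ∧
    (Cfsg.fittingSubgroup H ≠ ⊥ →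
      ¬ (Nat.card (orbit H b)).Coprime (Nat.card (orbit H c))) := by
  have : Nontrivial H := (Subgroup.nontrivial_iff_ne_bot H).2 hne
  rw [card_orbit_eq_index, card_orbit_eq_index, card_orbit_eq_index]
  refine ⟨?_, ?_⟩
  · rintro ⟨h1, h2, h3⟩
    exact false_of_three hall (normalCore_stabilizer H b hb) (normalCore_stabilizer H c hc)
      (normalCore_stabilizer H d hd) h1 h2 h3
  · intro hF h1
    exact false_of_two hF (normalCore_stabilizer H b hb) (normalCore_stabilizer H c hc) h1

end Cfsg.Agent.H393
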